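import Cfsg.Agent.OddOrder.BG4.RankTwoGroup
import Cfsg.Agent.Cores.Fitting
import Cfsg.Agent.Hall.Existence
import Cfsg.Agent.Hall.CardForms
import Cfsg.Agent.Hall.FocalIterate

/-!
BG 4.19, 4.20: odd solvable groups whose Fitting subgroup has rank at most two.
-/

set_option autoImplicit false

namespace Cfsg.Agent.OddOrder.BG4

open Subgroup
open scoped IsMulCommutative commutatorElement Pointwise

universe u

theorem pRankLE_of_le {G : Type u} [Group G] {p k : ℕ} {H K : Subgroup G} (h : H ≤ K)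
    (hr : Cfsg.PRankLE p k K) : Cfsg.PRankLE p k H := by
  intro A hA hexp
  have hinj : Function.Injective (inclusion h) := inclusion_injective h
  have hc : Nat.card (A.map (inclusion h)) = Nat.card A := card_map_of_injective hinj
  rw [← hc]
  refine hr _ (PGroups.isMulCommutative_of_comm ?_) ?_
  · rintro _ ⟨a, ha, rfl⟩ _ ⟨b, hb, rfl⟩
    rw [← map_mul, ← map_mul, PGroups.comm_of_isMulCommutative hA ha hb]
  · rintro _ ⟨a, ha, rfl⟩
    rw [← map_pow, hexp a ha, map_one]

variable {G : Type u} [Group G] [Finite G]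

/-- The centralizer of every `O_p` is the centralizer of the Fitting subgroup. -/
theorem mem_centralizer_fitting {x : G}
    (h : ∀ r : ℕ, r.Prime → x ∈ centralizer (Cfsg.pCore r G : Set G)) :
    x ∈ centralizer (Cfsg.fittingSubgroup G : Set G) := by
  have hle : Cfsg.fittingSubgroup G ≤ centralizer ({x} : Set G) := by
    rw [Cores.iSup_pCore_eq_fittingSubgroup]
    exact iSup_le fun r y hy => mem_centralizer_singleton_iff.mpr
      (mem_centralizer_iff.mp (h r r.2) y hy)
  exact mem_centralizer_iff.mpr fun y hy => mem_centralizer_singleton_iff.mp (hle hy)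

/-- Elements of distinct prime power orders in the derived group commute. -/
theorem commute_of_action [Group.IsSolvable G]
    (hact : ∀ r : ℕ, r.Prime → ∀ g ∈ commutator G,
      ∃ k : ℕ, g ^ r ^ k ∈ centralizer (Cfsg.pCore r G : Set G))
    {p q : ℕ} (hp : p.Prime) (hq : q.Prime) (hpq : p ≠ q) {x y : G} (hx : x ∈ commutator G)
    (hy : y ∈ commutator G) {a b : ℕ} (hxo : orderOf x = q ^ a) (hyo : orderOf y = p ^ b) :
    Commute x y := by
  set F := Cfsg.fittingSubgroup G with hF
  have key : ∀ (z : G), z ∈ commutator G → ∀ (s c : ℕ), s.Prime → orderOf z = s ^ c →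
      ∀ r : ℕ, r.Prime → r ≠ s → z ∈ centralizer (Cfsg.pCore r G : Set G) := by
    intro z hz s c hs hzo r hr hrs
    obtain ⟨k, hk⟩ := hact r hr z hz
    have hcop : (orderOf z).Coprime (r ^ k) := by
      rw [hzo]
      exact Nat.Coprime.pow _ _ ((Nat.coprime_primes hs hr).mpr hrs.symm)
    obtain ⟨m, hm⟩ := exists_pow_eq_self_of_coprime (x := z) hcop.symm
    rw [← hm]
    exact pow_mem hk m
  have : Fact q.Prime := ⟨hq⟩
  set v := y * x * y⁻¹ * x⁻¹ with hv
  have hwC : v ∈ centralizer (F : Set G) := by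
    refine mem_centralizer_fitting fun r hr => ?_
    set C := centralizer (Cfsg.pCore r G : Set G)
    have hRn : (Cfsg.pCore r G).Normal := H58.pCore_normal
    have hCn : C.Normal := inferInstance
    by_cases hrq : r = q
    · have h1 := key y hy p b hp hyo r hr (hrq ▸ hpq.symm)
      have h2 := C.mul_mem h1 (hCn.conj_mem y⁻¹ (C.inv_mem h1) x)
      rwa [show y * (x * y⁻¹ * x⁻¹) = v from by rw [hv]; group] at h2
    · have h1 := key x hx q a hq hxo r hr hrq
      exact C.mul_mem (hCn.conj_mem x h1 y) (C.inv_mem h1)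
  have hvF : v ∈ F := Cores.centralizer_fittingSubgroup_le hwC
  set Q := Cfsg.pCore q G with hQ
  have hQn : Q.Normal := H58.pCore_normal
  have hQp : IsPGroup q Q := Cores.pCore_isPGroup
  set S := Cfsg.pPrimeCore q G ⊓ centralizer ({x} : Set G) with hS
  have hsup : F ≤ S ⊔ Q := by
    rw [hF, Cores.iSup_pCore_eq_fittingSubgroup]
    refine iSup_le fun r => ?_
    by_cases hrq : (r : ℕ) = q
    · rw [hrq]; exact le_sup_right
    · have hrn : (Cfsg.pCore (r : ℕ) G).Normal := H58.pCore_normal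
      refine le_trans (le_inf (Cores.le_pPrimeCore ?_) fun z hz => ?_) le_sup_left
      · have := Fact.mk r.2
        obtain ⟨k, hk⟩ := IsPGroup.iff_card.mp (Cores.pCore_isPGroup (p := (r : ℕ)) (G := G))
        rw [hk]
        exact Nat.Coprime.pow_left _ ((Nat.coprime_primes r.2 hq).mpr hrq)
      · exact mem_centralizer_singleton_iff.mpr
          (mem_centralizer_iff.mp (key x hx q a hq hxo r r.2 hrq) z hz)
  obtain ⟨v2, hv2, v1, hv1, hvv⟩ := mem_sup_of_normal_right.mp (hsup hvF)
  have hc12 : Commute v2 v1 := (Cores.commute_pCore_pPrimeCore (p := q) hv1 hv2.1).symm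
  have hc2x : Commute v2 x := mem_centralizer_singleton_iff.mp hv2.2
  have hX : IsPGroup q (zpowers x ⊔ Q : Subgroup G) :=
    (IsPGroup.of_card (n := a) (by rw [Nat.card_zpowers, hxo])).to_sup_of_normal_right hQp
  obtain ⟨j, hj⟩ := hX ⟨v1 * x, mul_mem (mem_sup_right hv1) (mem_sup_left (mem_zpowers x))⟩
  have hj' : (v1 * x) ^ q ^ j = 1 := by simpa using congrArg Subtype.val hj
  have hvx : (v * x) ^ q ^ a = 1 := by
    rw [show v * x = y * x * y⁻¹ from by rw [hv]; group, conj_pow, ← hxo, pow_orderOf_eq_one,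
      mul_one, mul_inv_cancel]
  have hpow : v2 ^ q ^ (a + j) = 1 := by
    have h1 : (v * x) ^ q ^ (a + j) = 1 := by rw [pow_add, pow_mul, hvx, one_pow]
    have h2 : (v1 * x) ^ q ^ (a + j) = 1 := by rw [add_comm a j, pow_add, pow_mul, hj', one_pow]
    rwa [← hvv, mul_assoc, (hc12.mul_right hc2x).mul_pow, h2, mul_one] at h1
  have hv21 : v2 = 1 := by
    refine orderOf_eq_one_iff.mp (Nat.eq_one_of_dvd_coprimes
      ((Cores.coprime_card_pPrimeCore (p := q) (G := G)).pow_right (a + j))
      ((Cfsg.pPrimeCore q G).orderOf_dvd_natCard hv2.1) ?_)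
    exact orderOf_dvd_of_pow_eq_one hpow
  rw [hv21, one_mul] at hvv
  subst hvv
  have hvy : Commute y v := (mem_centralizer_iff.mp (key y hy p b hp hyo q hq hpq.symm) v hv1).symm
  have hn : ∀ n : ℕ, y ^ n * x = v ^ n * x * y ^ n := by
    intro n
    induction n with
    | zero => simp
    | succ n ih =>
      have e1 : y * x = v * x * y := by rw [hv]; group
      calc y ^ (n + 1) * x = y * (y ^ n * x) := by rw [pow_succ', mul_assoc]
        _ = (y * v ^ n) * (x * y ^ n) := by rw [ih]; group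
        _ = v ^ n * (y * x) * y ^ n := by rw [(hvy.pow_right n).eq]; group
        _ = v ^ (n + 1) * x * y ^ (n + 1) := by rw [e1, pow_succ v n, pow_succ' y n]; group
  have h1 := hn (orderOf y)
  rw [pow_orderOf_eq_one, one_mul, mul_one, right_eq_mul, hyo] at h1
  obtain ⟨i, hi⟩ := IsPGroup.iff_orderOf.mp hQp ⟨v, hv1⟩
  rw [Subgroup.orderOf_mk] at hi
  have hv1' : v = 1 := orderOf_eq_one_iff.mp (Nat.eq_one_of_dvd_coprimes
    (Nat.Coprime.pow i b ((Nat.coprime_primes hq hp).mpr hpq.symm)) hi.dvd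
    (orderOf_dvd_of_pow_eq_one h1))
  have e : y * x * y⁻¹ * x⁻¹ = 1 := hv ▸ hv1'
  exact (mul_inv_eq_iff_eq_mul.mp (mul_inv_eq_one.mp e)).symm

/-- BG 4.19, 4.20(a): the derived group lies in the Fitting subgroup. -/
theorem commutator_le_fitting_of_action [Group.IsSolvable G]
    (hact : ∀ r : ℕ, r.Prime → ∀ g ∈ commutator G,
      ∃ k : ℕ, g ^ r ^ k ∈ centralizer (Cfsg.pCore r G : Set G)) :
    commutator G ≤ Cfsg.fittingSubgroup G := by
  refine Cores.le_fittingSubgroup ((Group.isNilpotent_of_finite_tfae.out 0 3 rfl rfl).mpr ?_)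
  intro p hp P
  rw [← normalizer_eq_top_iff, ← index_eq_one]
  by_contra hne
  obtain ⟨q, hq, hqd⟩ := Nat.exists_prime_and_dvd hne
  have : Fact q.Prime := ⟨hq⟩
  by_cases hqp : q = p
  · subst hqp
    exact P.not_dvd_index (hqd.trans (index_dvd_of_le le_normalizer))
  · obtain ⟨S⟩ := (inferInstance : Nonempty (Sylow q (commutator G)))
    refine S.not_dvd_index (hqd.trans (index_dvd_of_le fun s hs => centralizer_le_normalizer _
      (mem_centralizer_iff.mpr fun t ht => ?_)))
    obtain ⟨b, hb⟩ := IsPGroup.iff_orderOf.mp S.2 ⟨s, hs⟩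
    obtain ⟨a, ha⟩ := IsPGroup.iff_orderOf.mp P.2 ⟨t, ht⟩
    rw [Subgroup.orderOf_mk, ← Subgroup.orderOf_coe] at hb ha
    exact Subtype.ext (commute_of_action hact hq hp.out hqp t.2 s.2 ha hb).eq

theorem ne_two_of_dvd_of_odd {n q : ℕ} (hn : Odd n) (hq : q ∣ n) : q ≠ 2 := fun e => by
  subst e
  exact (Nat.not_even_iff_odd.mpr hn) (even_iff_two_dvd.mpr hq)

theorem dvd_card_pCore {r : ℕ} [hr : Fact r.Prime] (h : Cfsg.pCore r G ≠ ⊥) :
    r ∣ Nat.card (Cfsg.pCore r G) := by
  obtain ⟨k, hk⟩ := IsPGroup.iff_card.mp (Cores.pCore_isPGroup (p := r) (G := G))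
  have hk0 : k ≠ 0 := fun e => h (card_eq_one.mp (by rw [hk, e, pow_zero]))
  exact hk ▸ dvd_pow_self r hk0

theorem pRankLE_pCore (hr : Cfsg.RankLE 2 G ∨ Cfsg.RankLE 2 (Cfsg.fittingSubgroup G)) {r : ℕ}
    (hrp : r.Prime) : Cfsg.PRankLE r 2 (Cfsg.pCore r G) :=
  have : Fact r.Prime := ⟨hrp⟩
  hr.elim (fun h => pRankLE_subgroup (h r hrp) _)
    fun h => pRankLE_of_le (Cores.pCore_le_fittingSubgroup hrp) (h r hrp)

/-- The rank two hypothesis gives the `p`-group action on each `O_p`. -/
theorem action_of_rank [Group.IsSolvable G] (hodd : Odd (Nat.card G))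
    (hr : Cfsg.RankLE 2 G ∨ Cfsg.RankLE 2 (Cfsg.fittingSubgroup G)) (r : ℕ) (hrp : r.Prime)
    (g : G) (hg : g ∈ commutator G) :
    ∃ k : ℕ, g ^ r ^ k ∈ centralizer (Cfsg.pCore r G : Set G) := by
  have : Fact r.Prime := ⟨hrp⟩
  by_cases hbot : Cfsg.pCore r G = ⊥
  · exact ⟨0, mem_centralizer_iff.mpr fun y hy => by
      rw [hbot] at hy
      rw [mem_bot.mp hy, one_mul, mul_one]⟩
  have hr2 : r ≠ 2 := ne_two_of_dvd_of_odd hodd
    ((dvd_card_pCore hbot).trans (card_subgroup_dvd_card _))
  have hRn : (Cfsg.pCore r G).Normal := H58.pCore_normal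
  refine exists_pow_mem_centralizer_of_rank_two hr2 Cores.pCore_isPGroup (pRankLE_pCore hr hrp)
    (normalizer_eq_top (H := Cfsg.pCore r G)).ge (inferInstance : Group.IsSolvable (⊤ : Subgroup G))
    (by rwa [card_top]) ?_
  rwa [← commutator_def]

/-- BG 4.20(b): characteristic subgroups of a Sylow subgroup inside its derived group. -/
theorem normal_of_char_le_derived (hder : commutator G ≤ Cfsg.fittingSubgroup G) {q : ℕ}
    [Fact q.Prime] (S : Sylow q G) (T : Subgroup ↥(S : Subgroup G)) (hT : T.Characteristic)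
    (hle : T.map (S : Subgroup G).subtype ≤ ⁅(S : Subgroup G), (S : Subgroup G)⁆) :
    (T.map (S : Subgroup G).subtype).Normal := by
  set T' := T.map (S : Subgroup G).subtype with hT'
  have hTq : T' ≤ Cfsg.pCore q G := by
    refine Cores.le_pCore_of_le_sup ((S.2.to_subgroup T).map _) ?_
    refine (hle.trans ((commutator_mono le_top le_top).trans ((commutator_def G).ge.trans hder))).trans ?_
    rw [Cores.iSup_pCore_eq_fittingSubgroup]
    exact Cores.iSup_pCore_le_sup q
  have hN : normalizer ((S : Subgroup G) : Set G) ≤ normalizer (T' : Set G) := by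
    intro a ha
    have := Subgroup.characteristic_iff_map_eq.mp hT ((S : Subgroup G).normalizerMonoidHom ⟨a, ha⟩)
    refine Coprime.mem_normalizer_of_map_conj ?_
    rw [hT', map_map]
    conv_rhs => rw [← this, map_map]
    rfl
  have hF : Cfsg.fittingSubgroup G ≤ normalizer (T' : Set G) := by
    rw [Cores.iSup_pCore_eq_fittingSubgroup]
    refine iSup_le fun r => ?_
    by_cases hrq : (r : ℕ) = q
    · rw [hrq]
      exact ((Cores.pCore_le_sylow S).trans le_normalizer).trans hN
    · intro z hz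
      refine centralizer_le_normalizer _ (mem_centralizer_iff.mpr fun t ht => ?_)
      have h2 : z ∈ Cfsg.pPrimeCore q G := by
        have hrn : (Cfsg.pCore (r : ℕ) G).Normal := H58.pCore_normal
        refine Cores.le_pPrimeCore ?_ hz
        have := Fact.mk r.2
        obtain ⟨k, hk⟩ := IsPGroup.iff_card.mp (Cores.pCore_isPGroup (p := (r : ℕ)) (G := G))
        rw [hk]
        exact Nat.Coprime.pow_left _ ((Nat.coprime_primes r.2 Fact.out).mpr hrq)
      exact (Cores.commute_pCore_pPrimeCore (hTq ht) h2).eq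
  rw [← normalizer_eq_top_iff, eq_top_iff]
  -- Frattini
  set L := (S : Subgroup G) ⊔ commutator G with hL
  have hLn : L.Normal := ⟨fun x hx g => by
    have h1 : g * x * g⁻¹ * x⁻¹ ∈ L := mem_sup_right
      (commutator_mem_commutator (mem_top g) (mem_top x))
    simpa using L.mul_mem h1 hx⟩
  let P : Sylow q L := S.subtype le_sup_left
  have hfr := Sylow.normalizer_sup_eq_top P
  have hPmap : (P : Subgroup L).map L.subtype = (S : Subgroup G) := by
    rw [show (P : Subgroup L) = (S : Subgroup G).subgroupOf L from Sylow.coe_subtype _ _]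
    exact map_subgroupOf_eq_of_le le_sup_left
  rw [← hfr]
  refine sup_le ?_ (sup_le ?_ (hder.trans hF))
  · exact (le_of_eq (congrArg (fun H : Subgroup G => normalizer (H : Set G)) hPmap)).trans hN
  · exact le_normalizer.trans hN

/-- BG 4.20(c): the normal Hall subgroup for the primes above `p`. -/
theorem exists_char_hall_gt [Group.IsSolvable G] (hodd : Odd (Nat.card G))
    (hrk : ∀ r : ℕ, r.Prime → Cfsg.PRankLE r 2 (Cfsg.pCore r G))
    (hder : commutator G ≤ Cfsg.fittingSubgroup G) (p : ℕ) :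
    ∃ N : Subgroup G, N.Characteristic ∧ Cfsg.IsPiHall {q | q.Prime ∧ p < q} N := by
  set π : Set ℕ := {q | q.Prime ∧ p < q}
  obtain ⟨H, hH⟩ := (Hall.hallDom_of_isSolvable π G).1
  have hFH : Cfsg.fittingSubgroup G ≤ normalizer (H : Set G) := by
    rw [Cores.iSup_pCore_eq_fittingSubgroup]
    refine iSup_le fun r => ?_
    have hrn : (Cfsg.pCore (r : ℕ) G).Normal := H58.pCore_normal
    have := Fact.mk r.2
    have hrp : IsPGroup (r : ℕ) (Cfsg.pCore (r : ℕ) G) := Cores.pCore_isPGroup
    by_cases hrπ : (r : ℕ) ∈ π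
    · refine (Hall.IsPiHall.normal_le hH ?_).trans le_normalizer
      obtain ⟨k, hk⟩ := IsPGroup.iff_card.mp hrp
      rw [hk]
      exact Hall.isPiNumber_pow_of_prime_mem r.2 hrπ k
    · -- `H` centralizes `O_r`
      suffices hc : H ≤ centralizer (Cfsg.pCore (r : ℕ) G : Set G) by
        exact (le_centralizer_iff.mp hc).trans (centralizer_le_normalizer _)
      by_cases hbot : Cfsg.pCore (r : ℕ) G = ⊥
      · rw [hbot]
        exact fun h _ => mem_centralizer_iff.mpr fun y hy => by
          rw [mem_bot.mp hy, one_mul, mul_one]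
      have hr2 : (r : ℕ) ≠ 2 := ne_two_of_dvd_of_odd hodd
        ((dvd_card_pCore hbot).trans (card_subgroup_dvd_card _))
      set C := centralizer (Cfsg.pCore (r : ℕ) G : Set G)
      rw [← relIndex_eq_one]
      by_contra hne
      obtain ⟨q, hq, hqd⟩ := Nat.exists_prime_and_dvd hne
      have : Fact q.Prime := ⟨hq⟩
      have hqπ : q ∈ π := Hall.IsPiHall.isPiNumber_card hH q hq
        (hqd.trans (relIndex_dvd_card C H))
      have hqG : q ∣ Nat.card G :=
        (hqd.trans (relIndex_dvd_card C H)).trans (card_subgroup_dvd_card H)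
      obtain ⟨S⟩ := (inferInstance : Nonempty (Sylow q H))
      refine S.not_dvd_index (hqd.trans (index_dvd_of_le fun x hx => ?_))
      rw [mem_subgroupOf]
      by_contra hxC
      obtain ⟨k, hk⟩ := IsPGroup.iff_orderOf.mp S.2 ⟨x, hx⟩
      rw [Subgroup.orderOf_mk, ← Subgroup.orderOf_coe] at hk
      have hqr : q ≠ (r : ℕ) := fun e => hrπ (e ▸ hqπ)
      have h1 := lt_of_dvd_pred_or_succ hq (ne_two_of_dvd_of_odd hodd hqG) hr2
        (prime_dvd_of_small_action hr2 hrp (hrk r r.2)
          ((normalizer_eq_top (H := Cfsg.pCore (r : ℕ) G)).ge (mem_top (x : G))) hq hqr hk hxC)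
      exact hrπ ⟨r.2, lt_trans hqπ.2 h1⟩
  -- `H` is normal
  set L := H ⊔ commutator G with hL
  have hLn : L.Normal := ⟨fun x hx g => by
    have h1 : g * x * g⁻¹ * x⁻¹ ∈ L := mem_sup_right
      (commutator_mem_commutator (mem_top g) (mem_top x))
    simpa using L.mul_mem h1 hx⟩
  have hLN : L ≤ normalizer (H : Set G) := sup_le le_normalizer (hder.trans hFH)
  have : (H.subgroupOf L).Normal := (normal_subgroupOf_iff_le_normalizer le_sup_left).mpr hLN
  have hmem : ∀ x ∈ L, Hall.IsPiNumber π (orderOf x) → x ∈ H := by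
    intro x hxL hx
    refine mem_subgroupOf.mp (Hall.mem_of_coprime_index (H.subgroupOf L) (x := ⟨x, hxL⟩) ?_)
    rw [Subgroup.orderOf_mk]
    exact Hall.IsPiNumber.coprime hx ((Hall.IsPiHall.isPiNumber_index hH).of_dvd
      (relIndex_dvd_index_of_le le_sup_left))
  refine ⟨H, characteristic_iff_le_comap.mpr fun φ x hx => ?_, hH⟩
  have hπx : Hall.IsPiNumber π (orderOf x) :=
    (Hall.IsPiHall.isPiNumber_card hH).of_dvd (H.orderOf_dvd_natCard hx)
  rw [mem_comap]
  -- `φ x` is a π-element, and π-elements of `G` lie in `H`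
  have hHn : H.Normal := ⟨fun y hy g => hmem _ (hLn.conj_mem y (mem_sup_left hy) g) (by
    change Hall.IsPiNumber π (orderOf (MulAut.conj g y))
    rw [MulEquiv.orderOf_eq]
    exact (Hall.IsPiHall.isPiNumber_card hH).of_dvd (H.orderOf_dvd_natCard hy))⟩
  refine Hall.mem_of_coprime_index H ?_
  change (orderOf (φ x)).Coprime _
  rw [MulEquiv.orderOf_eq]
  exact Hall.IsPiNumber.coprime hπx (Hall.IsPiHall.isPiNumber_index hH)

end Cfsg.Agent.OddOrder.BG4
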