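import Mathlib

/-!
Solvable groups of odd order in dimension two: a common eigenvector, and a unipotent derived group.
-/

set_option autoImplicit false

namespace Cfsg.Agent.OddOrder.BG4

variable {H : Type*} [Group H] {K : Type*} [Field K] {V : Type*} [AddCommGroup V] [Module K V]

theorem rep_injective (ρ : H →* Module.End K V) (g : H) : Function.Injective (ρ g) := by
  intro x y h
  have h' := congrArg (ρ g⁻¹) h
  simpa only [← Module.End.mul_apply, ← map_mul, inv_mul_cancel, map_one, Module.End.one_apply]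
    using h'

/-- Three common eigenlines of a commuting nonscalar family cannot be distinct. -/
theorem eigenline_cases [FiniteDimensional K V] (hV : Module.finrank K V = 2) (f : Module.End K V)
    (hf : ∀ c : K, f ≠ c • 1) {u v w : V} (hu : u ≠ 0) (hv : v ≠ 0) (hw : w ≠ 0)
    {a b c : K} (ha : f u = a • u) (hb : f v = b • v) (hc : f w = c • w)
    (huv : ∀ t : K, v ≠ t • u) : (∃ t : K, w = t • u) ∨ ∃ t : K, w = t • v := by
  have hind : LinearIndependent K ![u, v] := (LinearIndependent.pair_iff' hu).2 fun t => (huv t).symm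
  have hab : a ≠ b := by
    rintro rfl
    refine hf a (Module.Basis.ext (basisOfLinearIndependentOfCardEqFinrank hind (by simp [hV])) fun i => ?_)
    rw [coe_basisOfLinearIndependentOfCardEqFinrank]
    fin_cases i <;> simp [ha, hb]
  have hspan := hind.span_eq_top_of_card_eq_finrank (by simp [hV])
  have hwmem : w ∈ Submodule.span K (Set.range ![u, v]) := hspan ▸ Submodule.mem_top
  obtain ⟨cf, hcf⟩ := (Submodule.mem_span_range_iff_exists_fun K).1 hwmem
  simp only [Fin.sum_univ_two, Matrix.cons_val_zero, Matrix.cons_val_one] at hcf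
  have h2 : (cf 0 * a - c * cf 0) • u + (cf 1 * b - c * cf 1) • v = 0 := by
    rw [sub_smul, sub_smul, mul_smul, mul_smul, mul_smul, mul_smul, ← ha, ← hb, ← map_smul,
      ← map_smul, sub_add_sub_comm, ← map_add, ← smul_add, hcf, hc, sub_self]
  obtain ⟨e0, e1⟩ := hind.eq_zero_of_pair h2
  by_cases h0 : cf 0 = 0
  · exact Or.inr ⟨cf 1, by rw [← hcf, h0, zero_smul, zero_add]⟩
  · left
    have hca : c = a := by
      have : cf 0 * (a - c) = 0 := by linear_combination e0
      exact (sub_eq_zero.1 ((mul_eq_zero.1 this).resolve_left h0)).symm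
    have h1 : cf 1 = 0 := by
      have : cf 1 * (b - c) = 0 := by linear_combination e1
      exact (mul_eq_zero.1 this).resolve_right (sub_ne_zero.2 (hca ▸ hab.symm))
    exact ⟨cf 0, by rw [← hcf, h1, zero_smul, add_zero]⟩

theorem smul_one_det (hV : Module.finrank K V = 2) (c : K) :
    LinearMap.det (c • (1 : Module.End K V)) = c ^ 2 := by
  rw [LinearMap.det_smul, hV, map_one, mul_one]

/-- Commutators acting as scalars act trivially. -/
theorem commute_of_scalar_commutator [Finite H] (hV : Module.finrank K V = 2) [Nontrivial V]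
    (hodd : Odd (Nat.card H)) (ρ : H →* Module.End K V) {g h : H} {c : K}
    (hc : ρ (g * h * g⁻¹ * h⁻¹) = c • 1) : ρ g * ρ h = ρ h * ρ g := by
  have hdet : c ^ 2 = 1 := by
    rw [← smul_one_det (V := V) hV c, ← hc]
    change (LinearMap.det.comp ρ) (g * h * g⁻¹ * h⁻¹) = 1
    rw [map_mul, map_mul, map_mul, mul_comm ((LinearMap.det.comp ρ) g), mul_assoc _ _
      ((LinearMap.det.comp ρ) g⁻¹), ← map_mul (LinearMap.det.comp ρ) g, mul_inv_cancel, map_one,
      mul_one, ← map_mul, mul_inv_cancel, map_one]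
  set z := g * h * g⁻¹ * h⁻¹ with hz
  obtain ⟨m, hm⟩ := hodd
  have hpow : c ^ (2 * m + 1) = 1 := by
    have h1 : (c • (1 : Module.End K V)) ^ Nat.card H = 1 := by
      rw [← hc, ← map_pow, pow_card_eq_one', map_one]
    rw [hm, smul_pow, one_pow] at h1
    obtain ⟨v, hv⟩ := exists_ne (0 : V)
    have h2 := LinearMap.congr_fun h1 v
    simp only [LinearMap.smul_apply, Module.End.one_apply] at h2
    by_contra hne
    exact hv (eq_zero_of_smul_eq_self hne h2)
  have hc1 : c = 1 := by rwa [pow_succ, pow_mul, hdet, one_pow, one_mul] at hpow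
  rw [hc1, one_smul] at hc
  have : g * h = z * (h * g) := by rw [hz]; group
  rw [← map_mul, ← map_mul, this, map_mul, hc, one_mul]
where
  eq_zero_of_smul_eq_self {d : K} {v : V} (hd : ¬ d = 1) (h : d • v = v) : v = 0 := by
    have : (d - 1) • v = 0 := by rw [sub_smul, h, one_smul, sub_self]
    exact (smul_eq_zero.1 this).resolve_left (sub_ne_zero.2 hd)

/-- A solvable group of odd order acting in dimension two over an algebraically closed field has a
common eigenvector. -/
theorem exists_common_eigenvector [Finite H] [Group.IsSolvable H] [IsAlgClosed K]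
    [FiniteDimensional K V] (hV : Module.finrank K V = 2) (hodd : Odd (Nat.card H))
    (ρ : H →* Module.End K V) : ∃ v : V, v ≠ 0 ∧ ∀ h, ∃ c : K, ρ h v = c • v := by
  have hnt : Nontrivial V := Module.nontrivial_of_finrank_pos (R := K) (by omega)
  obtain ⟨M, ⟨hMn, hMc⟩, hmax⟩ := (Set.toFinite {M : Subgroup H | M.Normal ∧
      ∀ a ∈ M, ∀ b ∈ M, ρ a * ρ b = ρ b * ρ a}).exists_maximal
    ⟨⊥, inferInstance, fun a ha b hb => by rw [Subgroup.mem_bot.1 ha, Subgroup.mem_bot.1 hb]⟩
  by_cases hs : ∃ m ∈ M, ∀ c : K, ρ m ≠ c • 1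
  · obtain ⟨m, hm, hmns⟩ := hs
    obtain ⟨a, ha⟩ := Module.End.exists_eigenvalue (ρ m)
    obtain ⟨v, hv⟩ := ha.exists_hasEigenvector
    have hmv : ρ m v = a • v := hv.apply_eq_smul
    -- lines fixed by all of `M`
    have heig : ∀ x ∈ M, ∃ c : K, ρ x v = c • v := by
      intro x hx
      have hxv : ρ m (ρ x v) = a • ρ x v := by
        rw [← Module.End.mul_apply, hMc m hm x hx, Module.End.mul_apply, hmv, map_smul]
      by_contra hno
      push Not at hno
      have hind : LinearIndependent K ![v, ρ x v] :=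
        (LinearIndependent.pair_iff' hv.2).2 fun t => (hno t).symm
      refine hmns a (Module.Basis.ext
        (basisOfLinearIndependentOfCardEqFinrank hind (by simp [hV])) fun i => ?_)
      rw [coe_basisOfLinearIndependentOfCardEqFinrank]
      fin_cases i <;> simp [hmv, hxv]
    refine ⟨v, hv.2, ?_⟩
    by_contra hcon
    push Not at hcon
    obtain ⟨g, hg⟩ := hcon
    have hmove : ∀ y : H, ∃ c : K, ρ m (ρ y v) = c • ρ y v := by
      intro y
      obtain ⟨c, hc⟩ := heig (y⁻¹ * m * y) (by simpa using hMn.conj_mem m hm y⁻¹)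
      exact ⟨c, by rw [← Module.End.mul_apply, ← map_mul, show m * y = y * (y⁻¹ * m * y) from by group,
        map_mul, Module.End.mul_apply, hc, map_smul]⟩
    obtain ⟨b, hb⟩ := hmove g
    obtain ⟨c, hc⟩ := hmove (g * g)
    have hne : ∀ y : H, ρ y v ≠ 0 := fun y h0 => hv.2 (rep_injective ρ y (by rw [h0, map_zero]))
    rcases eigenline_cases hV (ρ m) hmns hv.2 (hne g) (hne (g * g)) hmv hb hc hg with ⟨t, ht⟩ | ⟨t, ht⟩
    · -- `g²` fixes the line, hence so does `g`
      obtain ⟨j, hj⟩ := hodd
      have hgk : g = (g * g) ^ (j + 1) := by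
        rw [← pow_two, ← pow_mul, show 2 * (j + 1) = Nat.card H + 1 by omega, pow_succ,
          pow_card_eq_one', one_mul]
      have hpw : ∀ i : ℕ, ρ ((g * g) ^ i) v = t ^ i • v := by
        intro i
        induction i with
        | zero => simp
        | succ i ih => rw [pow_succ', map_mul, Module.End.mul_apply, ih, map_smul, ht, smul_smul, pow_succ]
      exact hg (t ^ (j + 1)) (by rw [← hpw, ← hgk])
    · rw [map_mul, Module.End.mul_apply, ← map_smul] at ht
      exact hg t (rep_injective ρ g ht)
  push Not at hs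
  obtain ⟨v, hv⟩ := exists_ne (0 : V)
  by_cases hMtop : M = ⊤
  · refine ⟨v, hv, fun h => ?_⟩
    obtain ⟨c, hc⟩ := hs h (hMtop ▸ Subgroup.mem_top h)
    exact ⟨c, by rw [hc]; rfl⟩
  exfalso
  -- an abelian normal subgroup above `M`
  have : Nontrivial (H ⧸ M) := QuotientGroup.nontrivial_iff.2 hMtop
  obtain ⟨k, hk⟩ := (Group.isSolvable_def (H ⧸ M)).1 inferInstance
  have hex : ∃ i, derivedSeries (H ⧸ M) i = ⊥ := ⟨k, hk⟩
  classical
  have hi := Nat.find_spec hex
  obtain ⟨i, hi'⟩ : ∃ i, Nat.find hex = i + 1 := by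
    refine Nat.exists_eq_succ_of_ne_zero fun h0 => ?_
    rw [h0, derivedSeries_zero] at hi
    exact top_ne_bot hi
  have hne : derivedSeries (H ⧸ M) i ≠ ⊥ := Nat.find_min hex (by omega)
  rw [hi', derivedSeries_succ] at hi
  set N := (derivedSeries (H ⧸ M) i).comap (QuotientGroup.mk' M) with hN
  have hNn : N.Normal := (derivedSeries_normal (H ⧸ M) i).comap _
  have hMN : M ≤ N := fun x hx => by
    rw [hN, Subgroup.mem_comap, QuotientGroup.mk'_apply, (QuotientGroup.eq_one_iff x).2 hx]
    exact one_mem _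
  have hNc : ∀ a ∈ N, ∀ b ∈ N, ρ a * ρ b = ρ b * ρ a := by
    intro a ha b hb
    have h1 : QuotientGroup.mk' M (a * b * a⁻¹ * b⁻¹) = 1 := by
      rw [← Subgroup.mem_bot, ← hi, map_mul, map_mul, map_mul, map_inv, map_inv,
        ← commutatorElement_def]
      exact Subgroup.commutator_mem_commutator ha hb
    obtain ⟨c, hc⟩ := hs _ ((QuotientGroup.eq_one_iff _).1 h1)
    exact commute_of_scalar_commutator hV hodd ρ hc
  have hle : N ≤ M := hmax ⟨hNn, hNc⟩ hMN
  refine hne ?_
  rw [← Subgroup.map_comap_eq_self_of_surjective (QuotientGroup.mk'_surjective M)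
    (derivedSeries (H ⧸ M) i), ← hN, Subgroup.map_eq_bot_iff, QuotientGroup.ker_mk']
  exact hle

theorem sub_one_sq_eq_zero {M : Matrix (Fin 2) (Fin 2) K} {u : Fin 2 → K} (hu : u ≠ 0)
    (hMu : M.mulVec u = u) (hdet : M.det = 1) : (M - 1) * (M - 1) = 0 := by
  have h0 : (M - 1).det = 0 :=
    Matrix.exists_mulVec_eq_zero_iff.1 ⟨u, hu, by rw [Matrix.sub_mulVec, hMu, Matrix.one_mulVec, sub_self]⟩
  simp only [Matrix.det_fin_two, Matrix.sub_apply, Matrix.one_apply_eq, Matrix.one_apply_ne,
    ne_eq, zero_ne_one, one_ne_zero, not_false_eq_true, sub_zero] at h0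
  rw [Matrix.det_fin_two] at hdet
  ext i j
  fin_cases i <;> fin_cases j <;> simp [Matrix.mul_apply, Fin.sum_univ_two]
  · linear_combination (M 0 0 - 1) * (hdet - h0) - h0
  · linear_combination M 0 1 * (hdet - h0)
  · linear_combination M 1 0 * (hdet - h0)
  · linear_combination (M 1 1 - 1) * (hdet - h0) - h0

/-- Dimension two, odd solvable: the derived group has exponent `p` in characteristic `p`. -/
theorem pow_char_eq_one_of_mem_commutator [Finite H] [Group.IsSolvable H] [IsAlgClosed K]
    [FiniteDimensional K V] (hV : Module.finrank K V = 2) (hodd : Odd (Nat.card H))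
    (p : ℕ) [CharP K p] (ρ : H →* Module.End K V) {g : H} (hg : g ∈ commutator H) :
    ρ g ^ p = 1 := by
  obtain ⟨v, hv, hvc⟩ := exists_common_eigenvector hV hodd ρ
  choose lam hlam using hvc
  let L : H →* K :=
    { toFun := lam
      map_one' := smul_left_injective K hv (by
        change lam 1 • v = (1 : K) • v
        rw [← hlam, map_one, one_smul]; rfl)
      map_mul' := fun a b => smul_left_injective K hv (by
        change lam (a * b) • v = (lam a * lam b) • v
        rw [← hlam, map_mul, Module.End.mul_apply, hlam, map_smul, hlam, smul_smul, mul_comm]) }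
  have key : ∀ f : H →* K, f g = 1 := fun f =>
    congrArg Units.val (MonoidHom.mem_ker.1 (Abelianization.commutator_subset_ker f.toHomUnits hg))
  have hgv : ρ g v = v := by rw [hlam]; exact (congrArg (· • v) (key L)).trans (one_smul K v)
  have hdet : LinearMap.det (ρ g) = 1 := key (LinearMap.det.comp ρ)
  let bas := Module.finBasisOfFinrankEq K V hV
  set M := LinearMap.toMatrix bas bas (ρ g) with hM
  have hsq : (M - 1) * (M - 1) = 0 := by
    refine sub_one_sq_eq_zero (u := fun i => bas.repr v i) (fun h0 => hv ?_) ?_ ?_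
    · exact bas.repr.map_eq_zero_iff.1 (Finsupp.ext fun i => congrFun h0 i)
    · rw [hM, LinearMap.toMatrix_mulVec_repr, hgv]
    · rw [hM, LinearMap.det_toMatrix, hdet]
  have hN : (ρ g - 1) * (ρ g - 1) = 0 := by
    apply (LinearMap.toMatrix bas bas).injective
    rw [LinearMap.toMatrix_mul, map_sub, LinearMap.toMatrix_one, map_zero]
    exact hsq
  have hpow : ∀ n : ℕ, ρ g ^ n = 1 + (n : K) • (ρ g - 1) := by
    intro n
    induction n with
    | zero => simp
    | succ n ih =>
      rw [pow_succ, ih, add_mul, one_mul, smul_mul_assoc, Nat.cast_succ, add_smul, one_smul]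
      have e : (ρ g - 1) * ρ g = ρ g - 1 := by
        rw [mul_sub, sub_mul, one_mul, mul_one] at hN
        rw [sub_mul, one_mul]
        exact sub_eq_zero.1 hN
      rw [e]
      abel
  rw [hpow, CharP.cast_eq_zero, zero_smul, add_zero]

end Cfsg.Agent.OddOrder.BG4
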