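import Cfsg.Prelude.Def_OddOrderLocal
import Cfsg.Agent.OddOrder.BG4.GLTwo
import Cfsg.Agent.PGroups.Critical
import Cfsg.Agent.H62.CoprimeFix
import Cfsg.Agent.Coprime.Centralize
import Cfsg.Agent.Coprime.LinRep
import Cfsg.Agent.Fusion.PResidual

/-!
BG 4.17: an odd solvable group faithful on a `p`-group of rank at most two has a derived `p`-group.
-/

set_option autoImplicit false

namespace Cfsg.Agent.OddOrder.BG4

open Subgroup
open scoped commutatorElement IsMulCommutative

universe u

variable {p : ℕ} [hp : Fact p.Prime]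

/-- Thompson's critical subgroup of exponent `p`, with the faithfulness it guarantees. -/
theorem exists_char_exponent_subgroup {R : Type u} [Group R] [Finite R] (hp2 : p ≠ 2)
    (hR : IsPGroup p R) :
    ∃ C : Subgroup R, C.Characteristic ∧ (∀ x ∈ C, x ^ p = 1) ∧
      ∀ a : MulAut R, (orderOf a).Coprime p → (∀ x ∈ C, a x = x) → a = 1 := by
  obtain ⟨H, hHc, hfr, hcomm, hC⟩ := PGroups.exists_critical hR
  have hHp : IsPGroup p H := hR.to_subgroup H
  have hz : ∀ x y : H, x⁻¹ * y⁻¹ * x * y ∈ center H := by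
    intro x y
    refine Subgroup.mem_center_iff.mpr fun g => Subtype.ext ?_
    have h1 : ((x : R))⁻¹ * (y : R)⁻¹ * x * y ∈ H ⊓ centralizer (H : Set R) := by
      refine hcomm ?_
      have := commutator_mem_commutator (H₁ := H) (H₂ := (⊤ : Subgroup R))
        (H.inv_mem x.2) (mem_top (y : R)⁻¹)
      rwa [commutatorElement_def, inv_inv, inv_inv] at this
    exact mem_centralizer_iff.mp h1.2 g g.2
  have hpz : ∀ x : H, x ^ p ∈ center H := by
    intro x
    refine Subgroup.mem_center_iff.mpr fun g => Subtype.ext ?_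
    exact mem_centralizer_iff.mp (hfr ⟨x ^ p, PGroups.pow_mem_frattini hHp x, rfl⟩) g g.2
  have hzp : ∀ c u : H, (u⁻¹ * c⁻¹ * u * c) ^ p = 1 := by
    intro c u
    have h : u * c = c * u * (u⁻¹ * c⁻¹ * u * c) := by group
    have h1 := H62.pow_mul_comm_central (hz u c) h p
    rw [(Subgroup.mem_center_iff.mp (hpz u) c).symm, eq_comm, mul_eq_left] at h1
    exact h1
  have hmul : ∀ c u : H, c ^ p = 1 → u ^ p = 1 → (c * u) ^ p = 1 := by
    intro c u hc hu
    have h : u * c = c * u * (u⁻¹ * c⁻¹ * u * c) := by group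
    obtain ⟨k, hk⟩ : p ∣ p.choose 2 := by
      have := PGroups.dvd_choose_two_pow (p := p) hp.out hp2 1
      rwa [pow_one] at this
    rw [H62.mul_pow_class_two (hz u c) h, hc, hu, one_mul, one_mul, hk, pow_mul, hzp, one_pow]
  let C : Subgroup R :=
    { carrier := {x | x ∈ H ∧ x ^ p = 1}
      one_mem' := ⟨one_mem _, one_pow p⟩
      mul_mem' := fun {a b} ha hb => ⟨H.mul_mem ha.1 hb.1,
        congrArg Subtype.val (hmul ⟨a, ha.1⟩ ⟨b, hb.1⟩ (Subtype.ext ha.2) (Subtype.ext hb.2))⟩
      inv_mem' := fun {a} ha => ⟨H.inv_mem ha.1, by rw [inv_pow, ha.2, inv_one]⟩ }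
  refine ⟨C, ?_, fun x hx => hx.2, fun a ha hfix => ?_⟩
  · rw [characteristic_iff_le_comap]
    intro φ x hx
    exact ⟨(PGroups.apply_mem_iff_of_characteristic hHc φ).mpr hx.1, by
      rw [← map_pow, hx.2, map_one]⟩
  have hn : H.Normal := normal_of_characteristic (h := hHc) H
  refine PGroups.mulAut_eq_one_of_fixed hR H hC a ha ?_
  have hmap : H.map (a : R ≃* R).toMonoidHom = H := Subgroup.characteristic_iff_map_eq.mp hHc a
  let b : MulAut H := (a.subgroupMap H).trans (MulEquiv.subgroupCongr hmap)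
  have hb : ∀ x : H, (b x : R) = a x := fun x => rfl
  have hbpow : ∀ (k : ℕ) (x : H), ((b ^ k) x : R) = (a ^ k) x := by
    intro k
    induction k with
    | zero => intro x; simp
    | succ k ih =>
      intro x
      rw [pow_succ', pow_succ', MulAut.mul_apply, MulAut.mul_apply, hb, ih]
  have hb1 : b = 1 := H62.fix_all hHp b ha (MulEquiv.ext fun x => Subtype.ext (by
    rw [hbpow, pow_orderOf_eq_one]; rfl)) (fun x hx => Subtype.ext (by
    rw [hb]; exact hfix _ ⟨x.2, congrArg Subtype.val hx⟩)) (fun h => absurd h hp2)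
  intro x hx
  have := congrArg (fun f : MulAut H => ((f ⟨x, hx⟩ : H) : R)) hb1
  exact (hb ⟨x, hx⟩).symm.trans this

/-- Rank at most two and exponent `p`: order at most `p ^ 3`. -/
theorem card_le_cube_of_exponent {C : Type u} [Group C] [Finite C] (hC : IsPGroup p C)
    (hexp : ∀ x : C, x ^ p = 1) (hr : Cfsg.PRankLE p 2 C) : Nat.card C ≤ p ^ 3 := by
  obtain ⟨A, hAn, hAc, hmax⟩ : ∃ A : Subgroup C, A.Normal ∧ IsMulCommutative A ∧
      ∀ B : Subgroup C, B.Normal → IsMulCommutative B → A ≤ B → B = A := by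
    obtain ⟨A, ⟨hAn, hAc⟩, hA⟩ := (Set.toFinite
      {A : Subgroup C | A.Normal ∧ IsMulCommutative A}).exists_maximal
      ⟨⊥, inferInstance, PGroups.isMulCommutative_of_comm fun x hx y hy => by
        rw [mem_bot.mp hx, mem_bot.mp hy]⟩
    exact ⟨A, hAn, hAc, fun B h1 h2 h3 => le_antisymm (hA ⟨h1, h2⟩ h3) h3⟩
  obtain ⟨a, ha⟩ := IsPGroup.iff_card.mp (hC.to_subgroup A)
  have ha2 : a ≤ 2 := (Nat.pow_le_pow_iff_right hp.out.one_lt).mp
    (ha ▸ hr A hAc fun x _ => hexp x)
  refine (PGroups.card_le_of_maximal_normal_abelian hC hAc hmax ha).trans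
    (Nat.pow_le_pow_right hp.out.pos ?_)
  interval_cases a <;> norm_num

/-- Exponent `p`, rank at most two: the Frattini factor has order at most `p ^ 2`. -/
theorem card_frattini_quotient_le {C : Type u} [Group C] [Finite C] (hC : IsPGroup p C)
    (hexp : ∀ x : C, x ^ p = 1) (hr : Cfsg.PRankLE p 2 C) :
    Nat.card (C ⧸ frattini C) ≤ p ^ 2 := by
  have h3 := card_le_cube_of_exponent hC hexp hr
  have hmul := Subgroup.card_eq_card_quotient_mul_card_subgroup (frattini C)
  by_cases hΦ : frattini C = ⊥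
  · have hc : IsMulCommutative C := ⟨⟨fun x y => commutatorElement_eq_one_iff_mul_comm.mp
      (mem_bot.mp (hΦ ▸ PGroups.commutator_le_frattini hC
        (commutator_mem_commutator (mem_top x) (mem_top y))))⟩⟩
    have h2 : Nat.card C ≤ p ^ 2 := by
      rw [← Subgroup.card_top (G := C)]
      exact hr ⊤ ⟨⟨fun x y => Subtype.ext (mul_comm' (x : C) y)⟩⟩ fun x _ => hexp x
    exact le_trans (Nat.le_of_dvd Nat.card_pos (card_quotient_dvd_card _)) h2
  · have hΦp : p ≤ Nat.card (frattini C) :=
      Nat.le_of_dvd Nat.card_pos (PGroups.dvd_card_of_ne_bot hC hΦ)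
    by_contra hlt
    push Not at hlt
    nlinarith [hp.out.pos]

theorem pRankLE_subgroup {R : Type u} [Group R] {k : ℕ} (hr : Cfsg.PRankLE p k R) (C : Subgroup R) :
    Cfsg.PRankLE p k C := fun A hA hexp => by
  have hc : Nat.card (A.map C.subtype) = Nat.card A :=
    Subgroup.card_map_of_injective C.subtype_injective
  rw [← hc]
  refine hr (A.map C.subtype) (PGroups.isMulCommutative_of_comm ?_) ?_
  · rintro _ ⟨a, ha, rfl⟩ _ ⟨b, hb, rfl⟩
    rw [← map_mul, ← map_mul, PGroups.comm_of_isMulCommutative hA ha hb]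
  · rintro _ ⟨a, ha, rfl⟩
    rw [← map_pow, hexp a ha, map_one]

/-- The dual space of an elementary abelian group of order at most `l ^ 2` has dimension at most
two. -/
theorem finrank_sp_le {Y : Type u} [Group Y] [Finite Y] (N : Subgroup Y) [N.Normal]
    [IsMulCommutative N] (l : ℕ) [Fact l.Prime] (hexp : ∀ x ∈ N, x ^ l = 1)
    (hcard : Nat.card N ≤ l ^ 2) :
    Module.finrank (Coprime.LinRep.Coeff l) (Coprime.LinRep.Sp N l) ≤ 2 := by
  classical
  obtain ⟨u, v, huv⟩ : ∃ u v : N, zpowers u ⊔ zpowers v = ⊤ := by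
    by_contra hno
    push Not at hno
    have hne : ∀ K : Subgroup N, ∀ x : N, x ∉ K → l * Nat.card K ≤ Nat.card (K ⊔ zpowers x : Subgroup N) := by
      intro K x hx
      have hK := Subgroup.relIndex_mul_relIndex ⊥ K (K ⊔ zpowers x) bot_le le_sup_left
      rw [Subgroup.relIndex_bot_left, Subgroup.relIndex_bot_left] at hK
      rw [← hK, mul_comm l]
      refine Nat.mul_le_mul_left _ ?_
      have hdvd : K.relIndex (K ⊔ zpowers x) ∣ orderOf x := by
        rw [← Nat.card_zpowers, sup_comm, Subgroup.relIndex_sup_right]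
        exact Subgroup.relIndex_dvd_card _ _
      have hx1 : orderOf x ∣ l :=
        orderOf_dvd_of_pow_eq_one (Subtype.ext (by simpa using hexp x x.2))
      rcases (Nat.dvd_prime (Fact.out : l.Prime)).mp (hdvd.trans hx1) with h | h
      · exact absurd (Subgroup.relIndex_eq_one.mp h (mem_sup_right (mem_zpowers x))) hx
      · exact h.ge
    obtain ⟨u, hu⟩ : ∃ u : N, u ∉ (⊥ : Subgroup N) := by
      by_contra hall
      push Not at hall
      exact hno 1 1 (eq_top_iff.mpr fun x _ => by
        rw [mem_bot.mp (hall x)]; exact one_mem _)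
    have h1 := hne ⊥ u hu
    rw [bot_sup_eq, Subgroup.card_bot, mul_one] at h1
    obtain ⟨v, hv⟩ : ∃ v : N, v ∉ zpowers u := by
      by_contra hall
      push Not at hall
      exact hno u 1 (eq_top_iff.mpr fun x _ => mem_sup_left (hall x))
    have h2 := hne (zpowers u) v hv
    refine hno u v (Subgroup.eq_top_of_le_card _ ?_)
    calc Nat.card N ≤ l ^ 2 := hcard
      _ = l * l := pow_two l
      _ ≤ l * Nat.card (zpowers u) := Nat.mul_le_mul_left _ h1
      _ ≤ _ := h2
  let ev : Coprime.LinRep.Sp N l →ₗ[Coprime.LinRep.Coeff l] (Fin 2 → Coprime.LinRep.Coeff l) :=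
    { toFun := fun f => ![f (Additive.ofMul u), f (Additive.ofMul v)]
      map_add' := fun f g => by
        funext i
        fin_cases i <;> rfl
      map_smul' := fun c f => by
        funext i
        fin_cases i <;> rfl }
  refine (LinearMap.finrank_le_finrank_of_injective (f := ev) fun f g hfg => ?_).trans
    (le_of_eq (Module.finrank_fin_fun _))
  let E : Subgroup N :=
    { carrier := {x | f (Additive.ofMul x) = g (Additive.ofMul x)}
      one_mem' := by simp
      mul_mem' := fun {x y} hx hy => by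
        change f (Additive.ofMul (x * y)) = g (Additive.ofMul (x * y))
        rw [ofMul_mul, map_add, map_add, hx, hy]
      inv_mem' := fun {x} hx => by
        change f (Additive.ofMul x⁻¹) = g (Additive.ofMul x⁻¹)
        rw [ofMul_inv, map_neg, map_neg, hx] }
  have htop : zpowers u ⊔ zpowers v ≤ E :=
    sup_le (zpowers_le.mpr (congrFun hfg 0)) (zpowers_le.mpr (congrFun hfg 1))
  rw [huv] at htop
  exact AddMonoidHom.ext fun z => htop (mem_top (Additive.toMul z))

/-- Odd solvable image in dimension at most two: `g ^ l` acts trivially for `g` in the derived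
group. -/
theorem rep_pow_eq_one {H : Type*} [Group H] [Finite H] [Group.IsSolvable H] (hodd : Odd (Nat.card H))
    (l : ℕ) [Fact l.Prime] {V : Type*} [AddCommGroup V] [Module (Coprime.LinRep.Coeff l) V]
    [FiniteDimensional (Coprime.LinRep.Coeff l) V]
    (hV : Module.finrank (Coprime.LinRep.Coeff l) V ≤ 2)
    (ρ : H →* Module.End (Coprime.LinRep.Coeff l) V) {g : H} (hg : g ∈ commutator H) :
    ρ g ^ l = 1 := by
  have : CharP (Coprime.LinRep.Coeff l) l :=
    charP_of_injective_algebraMap (algebraMap (ZMod l) (Coprime.LinRep.Coeff l)).injective l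
  rcases Nat.lt_or_ge (Module.finrank (Coprime.LinRep.Coeff l) V) 2 with h | h
  · have hg1 : ρ g = 1 := by
      rcases Nat.eq_zero_or_pos (Module.finrank (Coprime.LinRep.Coeff l) V) with h0 | h0
      · have : Subsingleton V := Module.finrank_zero_iff.mp h0
        exact LinearMap.ext fun v => Subsingleton.elim _ _
      obtain ⟨v, hv, hspan⟩ := finrank_eq_one_iff'.mp
        (show Module.finrank (Coprime.LinRep.Coeff l) V = 1 by omega)
      have hex : ∀ y, ∃ c : Coprime.LinRep.Coeff l, c • v = ρ y v := fun y => hspan _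
      choose lam hlam using hex
      let L : H →* Coprime.LinRep.Coeff l :=
        { toFun := lam
          map_one' := smul_left_injective _ hv (by
            change lam 1 • v = (1 : Coprime.LinRep.Coeff l) • v
            rw [hlam, map_one, one_smul]; rfl)
          map_mul' := fun a b => smul_left_injective _ hv (by
            change lam (a * b) • v = (lam a * lam b) • v
            rw [hlam, map_mul, Module.End.mul_apply, ← hlam b, map_smul, ← hlam a, smul_smul,
              mul_comm]) }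
      refine LinearMap.ext fun w => ?_
      obtain ⟨c, rfl⟩ := hspan w
      rw [map_smul, ← hlam g, Module.End.one_apply]
      have hL : L g = 1 :=
        congrArg Units.val (MonoidHom.mem_ker.1 (Abelianization.commutator_subset_ker L.toHomUnits hg))
      change c • (L g • v) = c • v
      rw [hL, one_smul]
    rw [hg1, one_pow]
  · exact pow_char_eq_one_of_mem_commutator (by omega) hodd l ρ hg

/-- A `p`-group of rank at most two: `p'`-elements act faithfully on a group of order at most
`p ^ 2`. -/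
theorem exists_small_action {G : Type u} [Group G] [Finite G] (hp2 : p ≠ 2)
    {R A : Subgroup G} (hR : IsPGroup p R) (hr : Cfsg.PRankLE p 2 R)
    (hA : A ≤ normalizer (R : Set G)) :
    ∃ (Y : Type u) (_ : Group Y) (_ : Finite Y) (V : Subgroup Y) (ψ : A →* Y), V.Normal ∧
      IsMulCommutative V ∧ (∀ x ∈ V, x ^ p = 1) ∧ Nat.card V ≤ p ^ 2 ∧
      ∀ a : A, (orderOf a).Coprime p → ψ a ∈ centralizer (V : Set Y) →
        (a : G) ∈ centralizer (R : Set G) := by
  obtain ⟨C₀, hC₀c, hC₀e, hC₀f⟩ := exists_char_exponent_subgroup hp2 hR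
  set C := C₀.map R.subtype with hC
  have hCR : C ≤ R := map_subtype_le _
  have hCp : IsPGroup p C := hR.to_le hCR
  have hCe : ∀ x : C, x ^ p = 1 := by
    rintro ⟨_, x, hx, rfl⟩
    exact Subtype.ext (by simpa using congrArg Subtype.val (hC₀e x hx))
  have hCr : Cfsg.PRankLE p 2 C := by
    intro B hB hBe
    let e := C₀.equivMapOfInjective R.subtype R.subtype_injective
    have h1 := pRankLE_subgroup hr C₀ (B.comap e.toMonoidHom)
      (PGroups.isMulCommutative_of_comm fun x hx y hy => e.injective ((map_mul e x y).trans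
        ((PGroups.comm_of_isMulCommutative hB hx hy).trans (map_mul e y x).symm)))
      (fun x hx => e.injective ((map_pow e x p).trans ((hBe _ hx).trans (map_one e).symm)))
    refine le_of_eq_of_le ?_ h1
    exact (Nat.card_congr (Equiv.subtypeEquiv e.toEquiv fun _ => Iff.rfl)).symm
  set T := normalizer (C : Set G) with hT
  have hAT : A ≤ T := by
    intro a ha
    have := Subgroup.characteristic_iff_map_eq.mp hC₀c (R.normalizerMonoidHom ⟨a, hA ha⟩)
    refine Coprime.mem_normalizer_of_map_conj ?_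
    rw [hC, map_map]
    conv_rhs => rw [← this, map_map]
    rfl
  have hCT : C ≤ T := le_normalizer
  -- work in `T / Φ(C)`
  set Φ := (frattini C).map C.subtype with hΦ
  have hΦC : Φ ≤ C := map_subtype_le _
  have hTΦ : T ≤ normalizer (Φ : Set G) := by
    intro t ht
    have hch : (frattini C).Characteristic := frattini_characteristic
    have := Subgroup.characteristic_iff_map_eq.mp hch (C.normalizerMonoidHom ⟨t, ht⟩)
    refine Coprime.mem_normalizer_of_map_conj ?_
    rw [hΦ, map_map]
    conv_rhs => rw [← this, map_map]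
    rfl
  have : (Φ.subgroupOf T).Normal := (normal_subgroupOf_iff_le_normalizer (hΦC.trans hCT)).mpr hTΦ
  have : (C.subgroupOf T).Normal := (normal_subgroupOf_iff_le_normalizer hCT).mpr le_rfl
  set π := QuotientGroup.mk' (Φ.subgroupOf T) with hπ
  set V := (C.subgroupOf T).map π with hV
  have hVn : V.Normal := Subgroup.Normal.map ‹_› π (QuotientGroup.mk'_surjective _)
  have hexp : ∀ x ∈ V, x ^ p = 1 := by
    rintro _ ⟨x, hx, rfl⟩
    rw [← map_pow, show x ^ p = 1 from Subtype.ext (congrArg Subtype.val (hCe ⟨x, hx⟩) : (x : G) ^ p = 1),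
      map_one]
  have hVc : IsMulCommutative V := PGroups.isMulCommutative_of_comm fun a ha b hb => by
    obtain ⟨x, hx, rfl⟩ := ha
    obtain ⟨y, hy, rfl⟩ := hb
    rw [← map_mul, ← map_mul, hπ, QuotientGroup.mk'_apply, QuotientGroup.mk'_apply, QuotientGroup.eq,
      mem_subgroupOf]
    refine ⟨⁅(⟨y, hy⟩ : C)⁻¹, (⟨x, hx⟩ : C)⁻¹⁆, PGroups.commutator_le_frattini hCp
      (commutator_mem_commutator (mem_top _) (mem_top _)), ?_⟩
    simp [commutatorElement_def, mul_assoc]
  have hVcard : Nat.card V ≤ p ^ 2 := by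
    refine le_trans ?_ (card_frattini_quotient_le hCp hCe hCr)
    let φ : C →* V :=
      (π.comp (inclusion hCT)).codRestrict V fun c => ⟨_, (mem_subgroupOf.mpr c.2), rfl⟩
    have hker : frattini C ≤ φ.ker := fun c hc => MonoidHom.mem_ker.mpr (Subtype.ext
      ((QuotientGroup.eq_one_iff _).mpr (mem_subgroupOf.mpr ⟨c, hc, rfl⟩)))
    refine Nat.card_le_card_of_surjective (QuotientGroup.lift _ φ hker) ?_
    rintro ⟨_, x, hx, rfl⟩
    exact ⟨QuotientGroup.mk ⟨x, hx⟩, rfl⟩
  let ψ : A →* T ⧸ Φ.subgroupOf T := π.comp (inclusion hAT)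
  refine ⟨_, inferInstance, inferInstance, V, ψ, hVn, hVc, hexp, hVcard, ?_⟩
  rintro ⟨w, hwA⟩ hm hwV
  rw [Subgroup.orderOf_mk] at hm
  have hwC : zpowers w ≤ centralizer (C : Set G) := by
    refine Coprime.le_centralizer_of_frattini ((zpowers_le.mpr hwA).trans hAT) ?_ ?_
    · obtain ⟨j, hj⟩ := IsPGroup.iff_card.mp (hCp.to_subgroup (frattini C))
      rw [hj, Nat.card_zpowers]
      exact hm.pow_right j
    · intro z hz x hx
      have hzA : z ∈ A := zpowers_le.mpr hwA hz
      have h2 : ψ ⟨z, hzA⟩ ∈ centralizer (V : Set (T ⧸ Φ.subgroupOf T)) := by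
        obtain ⟨i, rfl⟩ := mem_zpowers_iff.mp hz
        have : (⟨w ^ i, hzA⟩ : A) = (⟨w, hwA⟩ : A) ^ i := Subtype.ext (by simp)
        rw [this, map_zpow]
        exact zpow_mem hwV _
      have h3 := mem_centralizer_iff.mp h2 _ ⟨⟨x, hCT hx⟩, mem_subgroupOf.mpr hx, rfl⟩
      change π ⟨x, hCT hx⟩ * π ⟨z, hAT hzA⟩ = π ⟨z, hAT hzA⟩ * π ⟨x, hCT hx⟩ at h3
      have h4 : π (⟨z, hAT hzA⟩ * ⟨x, hCT hx⟩ * ⟨z, hAT hzA⟩⁻¹ * ⟨x, hCT hx⟩⁻¹) = 1 := by
        rw [map_mul, map_mul, map_mul, ← h3, map_inv, map_inv, mul_inv_cancel_right, mul_inv_cancel]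
      exact mem_subgroupOf.mp ((QuotientGroup.eq_one_iff _).mp h4)
  have haut : H62.conjAut R (hA hwA) = 1 := by
    refine hC₀f _ ?_ fun x hx => Subtype.ext ?_
    · exact hm.coprime_dvd_left (orderOf_dvd_of_pow_eq_one (H62.conjAut_pow_orderOf R (hA hwA)))
    · rw [H62.conjAut_coe]
      have := mem_centralizer_iff.mp (hwC (mem_zpowers w)) (x : G) ⟨x, hx, rfl⟩
      rw [← this, mul_inv_cancel_right]
  refine mem_centralizer_iff.mpr fun x hx => ?_
  have := congrArg (fun f : MulAut R => ((f ⟨x, hx⟩ : R) : G)) haut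
  rw [H62.conjAut_coe] at this
  exact (mul_inv_eq_iff_eq_mul.mp this).symm

/-- BG 4.17 without faithfulness: elements of the derived group have a `p`-power power centralizing
`R`. -/
theorem exists_pow_mem_centralizer_of_rank_two {G : Type u} [Group G] [Finite G] (hp2 : p ≠ 2)
    {R A : Subgroup G} (hR : IsPGroup p R) (hr : Cfsg.PRankLE p 2 R)
    (hA : A ≤ normalizer (R : Set G)) (hAs : Group.IsSolvable A) (hAodd : Odd (Nat.card A))
    {g : G} (hg : g ∈ ⁅A, A⁆) : ∃ k : ℕ, g ^ p ^ k ∈ centralizer (R : Set G) := by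
  obtain ⟨Y, _, _, V, ψ, hVn, hVc, hexp, hcard, hfix⟩ := exists_small_action hp2 hR hr hA
  have hdim := finrank_sp_le V p hexp hcard
  have hgA : g ∈ A := commutator_le_self A hg
  have hg' : (⟨g, hgA⟩ : A) ∈ _root_.commutator A := by
    rw [← map_subtype_commutator] at hg
    obtain ⟨y, hy, rfl⟩ := hg
    exact hy
  have h1 := rep_pow_eq_one hAodd p hdim ((Coprime.LinRep.rep V p).comp ψ) hg'
  rw [← map_pow, MonoidHom.comp_apply, Coprime.LinRep.rep_eq_one_iff V p hexp] at h1
  obtain ⟨m, hm⟩ := Fusion.exists_pow_coprime (p := p) (g ^ p)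
  refine ⟨m + 1, ?_⟩
  rw [pow_succ', pow_mul]
  refine hfix (((⟨g, hgA⟩ : A) ^ p) ^ p ^ m) ?_ ?_
  · rw [← Subgroup.orderOf_coe]
    simpa using hm
  · rw [map_pow]
    exact pow_mem h1 _

/-- BG 4.17. -/
theorem commutator_isPGroup_of_rank_two {G : Type u} [Group G] [Finite G] (hp2 : p ≠ 2)
    {R A : Subgroup G} (hR : IsPGroup p R) (hr : Cfsg.PRankLE p 2 R)
    (hA : A ≤ normalizer (R : Set G)) (hAs : Group.IsSolvable A) (hAodd : Odd (Nat.card A))
    (hfaith : A ⊓ centralizer (R : Set G) = ⊥) : IsPGroup p ↥⁅A, A⁆ := by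
  rintro ⟨g, hg⟩
  obtain ⟨k, hk⟩ := exists_pow_mem_centralizer_of_rank_two hp2 hR hr hA hAs hAodd hg
  refine ⟨k, Subtype.ext ?_⟩
  have hmem : g ^ p ^ k ∈ A ⊓ centralizer (R : Set G) :=
    ⟨pow_mem (commutator_le_self A hg) _, hk⟩
  rw [hfaith, mem_bot] at hmem
  exact hmem

end Cfsg.Agent.OddOrder.BG4
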