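import Cfsg.Prelude.Def_Local
import Cfsg.Agent.OddOrder.BG4.RankTwo
import Cfsg.Agent.Cores.Constrained
import Cfsg.Agent.Fusion.PComplement
import Cfsg.Agent.H48.Qd
import Cfsg.Agent.H58.AmalgamCharP

/-!
BG 4.18: solvable groups of odd order with `p`-rank at most two.
-/

set_option autoImplicit false

namespace Cfsg.Agent.OddOrder.BG4

open Subgroup
open scoped IsMulCommutative

universe u

variable {p : ℕ} [hp : Fact p.Prime]

/-- If a `q`-element moves a rank two `p`-group then `q` divides `p - 1` or `p + 1`. -/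
theorem prime_dvd_of_small_action {G : Type u} [Group G] [Finite G] (hp2 : p ≠ 2)
    {R : Subgroup G} (hR : IsPGroup p R) (hr : Cfsg.PRankLE p 2 R) {x : G}
    (hx : x ∈ normalizer (R : Set G)) {q : ℕ} (hq : q.Prime) (hqp : q ≠ p) {k : ℕ}
    (ho : orderOf x = q ^ k)
    (hfix : x ∉ centralizer (R : Set G)) : q ∣ p - 1 ∨ q ∣ p + 1 := by
  obtain ⟨Y, _, _, V, ψ, hVn, hVc, hexp, hcard, hC⟩ :=
    exists_small_action hp2 hR hr (A := zpowers x) (zpowers_le.mpr hx)
  have : Fact q.Prime := ⟨hq⟩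
  set y := ψ ⟨x, mem_zpowers x⟩ with hy
  have hyq : y ^ q ^ k = 1 := by
    rw [hy, ← map_pow, show (⟨x, mem_zpowers x⟩ : zpowers x) ^ q ^ k = 1 from
      Subtype.ext (by simp [← ho, pow_orderOf_eq_one]), map_one]
  have hyV : y ∉ centralizer (V : Set Y) := fun h => hfix (hC ⟨x, mem_zpowers x⟩ (by
    rw [Subgroup.orderOf_mk, ho]
    exact ((Nat.coprime_primes hq hp.out).mpr hqp).pow_left k) h)
  have hVp : IsPGroup p V := fun v => ⟨1, Subtype.ext (by simpa using hexp v v.2)⟩
  obtain ⟨j, hj⟩ := IsPGroup.iff_card.mp hVp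
  have hj2 : j ≤ 2 := (Nat.pow_le_pow_iff_right hp.out.one_lt).mp (hj ▸ hcard)
  have hP : IsPGroup q (zpowers y) := fun g => ⟨k, by
    obtain ⟨i, hi⟩ := mem_zpowers_iff.mp g.2
    refine Subtype.ext ?_
    rw [SubmonoidClass.coe_pow, ← hi, ← zpow_natCast, ← zpow_mul, mul_comm, zpow_mul,
      zpow_natCast, hyq, one_zpow, coe_one]⟩
  let : MulAction (zpowers y) V :=
    MulAction.compHom V ((MulAut.conjNormal (H := V)).comp (zpowers y).subtype)
  have hcong := hP.card_modEq_card_fixedPoints V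
  set F := V ⊓ centralizer ({y} : Set Y) with hF
  have hfixF : Nat.card (MulAction.fixedPoints (zpowers y) V) = Nat.card F := by
    have hmem : ∀ v : V, v ∈ MulAction.fixedPoints (zpowers y) V ↔ (v : Y) ∈ F := by
      intro v
      constructor
      · intro hv
        have h1 := congrArg Subtype.val
          (show (MulAut.conjNormal (H := V) y) v = v from hv ⟨y, mem_zpowers y⟩)
        rw [MulAut.conjNormal_apply] at h1
        exact ⟨v.2, mem_centralizer_singleton_iff.mpr (mul_inv_eq_iff_eq_mul.mp h1).symm⟩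
      · rintro ⟨-, hv⟩ ⟨g, hg⟩
        obtain ⟨i, rfl⟩ := mem_zpowers_iff.mp hg
        refine Subtype.ext ?_
        change ((MulAut.conjNormal (H := V) (y ^ i) v : V) : Y) = v
        rw [MulAut.conjNormal_apply]
        have : Commute y (v : Y) := (mem_centralizer_singleton_iff.mp hv).symm
        rw [(this.zpow_left i).eq, mul_inv_cancel_right]
    exact Nat.card_congr
      ⟨fun c => ⟨c.1, (hmem c.1).mp c.2⟩, fun c => ⟨⟨c, c.2.1⟩, (hmem _).mpr c.2⟩,
        fun c => rfl, fun c => rfl⟩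
  rw [hfixF] at hcong
  obtain ⟨i, hi⟩ := IsPGroup.iff_card.mp (hVp.to_le (inf_le_left : F ≤ V))
  have hlt : i < j := by
    refine lt_of_not_ge fun hle => hyV ?_
    have hFV : F = V := eq_of_le_of_card_ge inf_le_left
      (by rw [hi, hj]; exact Nat.pow_le_pow_right hp.out.pos hle)
    exact mem_centralizer_iff.mpr fun v hv =>
      mem_centralizer_singleton_iff.mp ((hFV.ge hv).2)
  rw [hi, hj] at hcong
  have hd : q ∣ p ^ j - p ^ i :=
    (Nat.modEq_iff_dvd' (Nat.pow_le_pow_right hp.out.pos hlt.le)).mp hcong.symm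
  have hnp : ¬ q ∣ p := fun h => hqp ((Nat.prime_dvd_prime_iff_eq hq hp.out).mp h)
  interval_cases j <;> interval_cases i
  · exact Or.inl (by simpa using hd)
  · rw [show p ^ 2 - p ^ 0 = (p + 1) * (p - 1) from by
      rw [← Nat.sq_sub_sq, pow_zero, one_pow]] at hd
    exact (hq.dvd_mul.mp hd).symm
  · rw [show p ^ 2 - p ^ 1 = p * (p - 1) from by rw [Nat.mul_sub, mul_one, pow_one, pow_two]] at hd
    exact Or.inl ((hq.dvd_mul.mp hd).resolve_left hnp)

/-- An odd such prime is smaller than `p`. -/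
theorem lt_of_dvd_pred_or_succ {q : ℕ} (hq : q.Prime) (hq2 : q ≠ 2) (hp2 : p ≠ 2)
    (h : q ∣ p - 1 ∨ q ∣ p + 1) : q < p := by
  have hpp := hp.out.two_le
  rcases h with h | h
  · have := Nat.le_of_dvd (by omega) h
    omega
  · obtain ⟨c, hc⟩ := h
    have hpo : p % 2 = 1 := hp.out.eq_two_or_odd.resolve_left hp2
    have hqo : q % 2 = 1 := hq.eq_two_or_odd.resolve_left hq2
    have hc2 : 2 ≤ c := by
      rcases c with _ | _ | c
      · omega
      · omega
      · omega
    nlinarith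

/-- The conclusions of BG 4.18 / 5.6, from the structure modulo `O_{p'}`. -/
theorem structure_of_derived {G : Type u} [Group G] [Finite G]
    (hder : commutator (G ⧸ Cfsg.pPrimeCore p G) ≤ Cfsg.pCore p (G ⧸ Cfsg.pPrimeCore p G))
    (hsmall : ∀ x : G ⧸ Cfsg.pPrimeCore p G, (orderOf x).Prime → orderOf x ≠ p → orderOf x < p)
    (hodd : Odd (Nat.card G)) :
    (∀ q : ℕ, q.Prime → q ∣ (Cfsg.pPrimeCore p G).index → q ≤ p) ∧
      ((p = 3 ∨ ∀ q : ℕ, q.Prime → q ∣ Nat.card G → p ≤ q) → Cfsg.HasNormalPComplement p G) ∧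
      Cfsg.HasNormalPComplement p ↥(commutator G) ∧
      (∀ L : Subgroup ↥(commutator G), (Nat.card L).Coprime p →
        L ≤ Cfsg.pPrimeCore p ↥(commutator G)) ∧
      commutator G ≤ Cfsg.pPrimePCore p G ∧ ((Cfsg.pPrimePCore p G).index).Coprime p := by
  set O := Cfsg.pPrimeCore p G with hO
  set f := QuotientGroup.mk' O with hf
  have hsurj : Function.Surjective f := QuotientGroup.mk'_surjective O
  have hmap : (commutator G).map f = commutator (G ⧸ O) := by
    rw [commutator_def, commutator_def, map_commutator, map_top_of_surjective f hsurj]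
  have hle : commutator G ≤ Cfsg.pPrimePCore p G := fun x hx =>
    hder (hmap ▸ mem_map_of_mem f hx)
  -- the image of the derived group is a `p`-group
  have hQ : IsPGroup p ((commutator G).map f) := hmap ▸ (Cores.pCore_isPGroup (G := G ⧸ O)).to_le hder
  have hO' : (Nat.card O).Coprime p := Cores.coprime_card_pPrimeCore
  have hsmall' : ∀ q : ℕ, q.Prime → q ∣ O.index → q ≤ p := by
    intro q hq hqd
    have : Fact q.Prime := ⟨hq⟩
    rw [index_eq_card] at hqd
    obtain ⟨x, hx⟩ := exists_prime_orderOf_dvd_card' (G := G ⧸ O) q hqd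
    by_cases h : q = p
    · exact h.le
    · exact (hx ▸ hsmall x (hx.symm ▸ hq) (hx.symm ▸ h)).le
  refine ⟨hsmall', fun hcase => ?_, ?_, fun L hL => ?_, hle, ?_⟩
  · refine Fusion.hasNormalPComplement_of_quotient (N := O) Cores.not_dvd_card_pPrimeCore ?_
    refine IsPGroup.of_card (n := (Nat.card (G ⧸ O)).primeFactorsList.length) ?_
    refine Nat.eq_prime_pow_of_unique_prime_dvd Nat.card_pos.ne' fun {d} hd hdd => ?_
    have hdG : d ∣ Nat.card G := hdd.trans (card_quotient_dvd_card O)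
    have hdp : d ≤ p := hsmall' d hd (by rwa [index_eq_card])
    refine le_antisymm hdp ?_
    rcases hcase with h | h
    · have hd2 : d ≠ 2 := fun e => by
        subst e
        exact (Nat.not_even_iff_odd.mpr hodd) (even_iff_two_dvd.mpr hdG)
      have := hd.two_le
      omega
    · exact h d hd hdG
  · set N := O.subgroupOf (commutator G) with hN
    refine Fusion.hasNormalPComplement_of_quotient (N := N) ?_ ?_
    · intro hd
      have h1 : Nat.card N ∣ Nat.card O :=
        card_comap_dvd_of_injective _ _ (commutator G).subtype_injective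
      exact hp.out.coprime_iff_not_dvd.mp hO'.symm (hd.trans h1)
    · refine IsPGroup.iff_card.mpr ?_
      obtain ⟨k, hk⟩ := IsPGroup.iff_card.mp hQ
      refine ⟨k, ?_⟩
      rw [← hk, ← index_eq_card, hN, ← relIndex_ker, QuotientGroup.ker_mk']
      rfl
  · have hN : (Nat.card (O.subgroupOf (commutator G))).Coprime p :=
      hO'.coprime_dvd_left (card_comap_dvd_of_injective _ _ (commutator G).subtype_injective)
    refine le_trans ?_ (Cores.le_pPrimeCore hN)
    intro x hx
    rw [mem_subgroupOf, ← QuotientGroup.eq_one_iff, ← orderOf_eq_one_iff]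
    obtain ⟨k, hk⟩ := IsPGroup.iff_orderOf.mp hQ ⟨f x, mem_map_of_mem f x.2⟩
    rw [Subgroup.orderOf_mk] at hk
    refine Nat.eq_one_of_dvd_coprimes (Nat.Coprime.pow_right k hL) ?_ hk.dvd
    refine (orderOf_map_dvd f (x : G)).trans ?_
    rw [Subgroup.orderOf_coe]
    exact L.orderOf_dvd_natCard hx
  · -- `O_p` of the quotient is a Sylow subgroup
    have hidx : (Cfsg.pPrimePCore p G).index = (Cfsg.pCore p (G ⧸ O)).index :=
      index_comap_of_surjective _ hsurj
    rw [hidx]
    obtain ⟨S⟩ := (inferInstance : Nonempty (Sylow p (G ⧸ O)))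
    have hSn : (S : Subgroup (G ⧸ O)).Normal := ⟨fun s hs g => by
      have h1 : g * s * g⁻¹ * s⁻¹ ∈ (S : Subgroup (G ⧸ O)) := Cores.pCore_le_sylow S (hder (by
        rw [← commutatorElement_def]
        exact commutator_mem_commutator (mem_top g) (mem_top s)))
      simpa using mul_mem h1 hs⟩
    have hSle : (S : Subgroup (G ⧸ O)) ≤ Cfsg.pCore p (G ⧸ O) := Cores.le_pCore S.isPGroup'
    rw [Nat.coprime_comm, hp.out.coprime_iff_not_dvd]
    exact fun hd => S.not_dvd_index (hd.trans (index_dvd_of_le hSle))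

theorem centralizer_pCore_quotient_le {G : Type u} [Group G] [Finite G] [Group.IsSolvable G] :
    centralizer (Cfsg.pCore p (G ⧸ Cfsg.pPrimeCore p G) : Set (G ⧸ Cfsg.pPrimeCore p G)) ≤
      Cfsg.pCore p (G ⧸ Cfsg.pPrimeCore p G) :=
  Cores.centralizer_pCore_le
    (Cores.isPSolvable_quotient Cores.isPSolvable_of_isSolvable _)
    Cores.pPrimeCore_quotient_pPrimeCore

/-- BG 4.18. -/
theorem rank_two_structure {G : Type u} [Group G] [Finite G] [Group.IsSolvable G]
    (hodd : Odd (Nat.card G)) (hpG : p ∣ Nat.card G) (hr : Cfsg.PRankLE p 2 G) :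
    (∀ q : ℕ, q.Prime → q ∣ (Cfsg.pPrimeCore p G).index → q ≤ p) ∧
      ((p = 3 ∨ ∀ q : ℕ, q.Prime → q ∣ Nat.card G → p ≤ q) → Cfsg.HasNormalPComplement p G) ∧
      Cfsg.HasNormalPComplement p ↥(commutator G) ∧
      (∀ L : Subgroup ↥(commutator G), (Nat.card L).Coprime p →
        L ≤ Cfsg.pPrimeCore p ↥(commutator G)) ∧
      commutator G ≤ Cfsg.pPrimePCore p G ∧ ((Cfsg.pPrimePCore p G).index).Coprime p := by
  have hne2 : ∀ q : ℕ, q ∣ Nat.card G → q ≠ 2 := fun q hq e => by
    subst e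
    exact (Nat.not_even_iff_odd.mpr hodd) (even_iff_two_dvd.mpr hq)
  have hp2 := hne2 p hpG
  set O := Cfsg.pPrimeCore p G
  set R := Cfsg.pCore p (G ⧸ O) with hR
  have hRp : IsPGroup p R := Cores.pCore_isPGroup
  have hrQ : Cfsg.PRankLE p 2 (G ⧸ O) := H48.pRankLE_quotient hr Cores.coprime_card_pPrimeCore
  have hrR : Cfsg.PRankLE p 2 R := pRankLE_subgroup hrQ R
  have hRn : R.Normal := H58.pCore_normal
  have htop : (⊤ : Subgroup (G ⧸ O)) ≤ normalizer (R : Set (G ⧸ O)) :=
    (normalizer_eq_top (H := R)).ge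
  have hCR := centralizer_pCore_quotient_le (p := p) (G := G)
  have hoddQ : Odd (Nat.card (⊤ : Subgroup (G ⧸ O))) := by
    rw [card_top]
    exact hodd.of_dvd_nat (card_quotient_dvd_card O)
  refine structure_of_derived ?_ ?_ hodd
  · refine Cores.le_pCore (N := commutator (G ⧸ O)) fun ⟨g, hg⟩ => ?_
    obtain ⟨k, hk⟩ := exists_pow_mem_centralizer_of_rank_two hp2 hRp hrR htop
      (inferInstance : Group.IsSolvable (⊤ : Subgroup (G ⧸ O))) hoddQ (g := g)
      (by rwa [← commutator_def])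
    obtain ⟨i, hi⟩ := hRp ⟨g ^ p ^ k, hCR hk⟩
    refine ⟨k + i, Subtype.ext ?_⟩
    have := congrArg Subtype.val hi
    rw [SubmonoidClass.coe_pow, coe_one] at this ⊢
    rw [pow_add, pow_mul]
    exact this
  · intro x hq hqp
    refine lt_of_dvd_pred_or_succ hq (hne2 _ ((orderOf_dvd_natCard x).trans
      (card_quotient_dvd_card O))) hp2
      (prime_dvd_of_small_action hp2 hRp hrR (htop (mem_top x)) hq hqp (pow_one _).symm fun hc => hqp ?_)
    obtain ⟨k, hk⟩ := IsPGroup.iff_orderOf.mp hRp ⟨x, hCR hc⟩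
    rw [Subgroup.orderOf_mk] at hk
    exact (Nat.prime_dvd_prime_iff_eq hq hp.out).mp (hq.dvd_of_dvd_pow hk.dvd)

end Cfsg.Agent.OddOrder.BG4
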