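import Cfsg.Agent.OddOrder.BG4.MetaAction
import Cfsg.Agent.Coprime.Action
import Cfsg.Agent.Coprime.Commutator
import Cfsg.Agent.Coprime.Abelian
import Cfsg.Agent.H61.RankOne
import Cfsg.Agent.PGroups.Metacyclic
import Cfsg.Agent.H62.CoprimeFix

/-!
BG 4.12: coprime action on a metacyclic `p`-group.
-/

set_option autoImplicit false

namespace Cfsg.Agent.OddOrder.BG4

open Subgroup
open scoped commutatorElement

universe u

/-- Subgroups of metacyclic groups are metacyclic. -/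
theorem isMetacyclic_of_le {G : Type u} [Group G] {H K : Subgroup G} (h : H ≤ K)
    (hK : Cfsg.IsMetacyclic K) : Cfsg.IsMetacyclic H := by
  obtain ⟨N, hNn, hNc, hQc⟩ := hK
  refine ⟨N.comap (inclusion h), inferInstance, ?_, ?_⟩
  · let f : N.comap (inclusion h) →* N :=
      ((inclusion h).comp (N.comap (inclusion h)).subtype).codRestrict N fun x => x.2
    exact isCyclic_of_injective f fun x y hxy =>
      Subtype.ext (inclusion_injective h (congrArg Subtype.val hxy))
  · refine isCyclic_of_injective (QuotientGroup.map _ N (inclusion h) le_rfl) ?_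
    rw [injective_iff_map_eq_one]
    intro x hx
    induction x using QuotientGroup.induction_on with | _ y =>
    rw [QuotientGroup.map_mk, QuotientGroup.eq_one_iff] at hx
    rwa [QuotientGroup.eq_one_iff]

variable {p : ℕ} [hp : Fact p.Prime]

/-- A metacyclic `p`-group, `p` odd, is regular. -/
theorem regularAt_of_metacyclic {R : Type u} [Group R] [Finite R] (hp2 : p ≠ 2) (hR : IsPGroup p R)
    (hm : Cfsg.IsMetacyclic R) : PGroups.RegularAt p 1 R := by
  obtain ⟨N, hNn, hNc, hQc⟩ := hm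
  have hle : commutator R ≤ N := by
    rw [_root_.commutator_def, Subgroup.commutator_le]
    intro x _ y _
    rw [← QuotientGroup.eq_one_iff]
    change QuotientGroup.mk' N ⁅x, y⁆ = 1
    rw [map_commutatorElement, commutatorElement_eq_one_iff_mul_comm]
    exact mul_comm' _ _
  have hcyc : IsCyclic (commutator R) :=
    isCyclic_of_surjective _ (subgroupOfEquivOfLe hle).surjective
  obtain ⟨⟨c, hc⟩, hg⟩ := IsCyclic.exists_generator (α := commutator R)
  have hceq : commutator R = zpowers c := le_antisymm (fun x hx => by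
    obtain ⟨i, hi⟩ := mem_zpowers_iff.mp (hg ⟨x, hx⟩)
    exact mem_zpowers_iff.mpr ⟨i, congrArg Subtype.val hi⟩) (zpowers_le.mpr hc)
  exact PGroups.regularAt_of_isRegular (PGroups.isRegular_of_commutator_cyclic hR hp2 c hceq) 1

/-- A metacyclic `p`-group has at most `p ^ 2` solutions of `x ^ p = 1`, `p` odd. -/
theorem card_pow_eq_one_le_of_metacyclic {R : Type u} [Group R] [Finite R] (hp2 : p ≠ 2)
    (hR : IsPGroup p R) (hm : Cfsg.IsMetacyclic R) :
    Nat.card {x : R // x ^ p = 1} ≤ p ^ 2 := by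
  have hreg := regularAt_of_metacyclic hp2 hR hm
  obtain ⟨N, hNn, hNc, hQc⟩ := hm
  set W := PGroups.omegaSubgroup hR hreg with hW
  have hWp : ∀ x : R, x ∈ W ↔ x ^ p = 1 := fun x => by
    change x ^ p ^ 1 = 1 ↔ _
    rw [pow_one]
  have e : Nat.card {x : R // x ^ p = 1} = Nat.card W :=
    Nat.card_congr (Equiv.subtypeEquivRight fun x => (hWp x).symm)
  rw [e]
  set φ : W →* R ⧸ N := (QuotientGroup.mk' N).comp W.subtype with hφ
  have hcard : ∀ (Q : Type u) [Group Q] [Finite Q] (_ : IsCyclic Q) (V : Subgroup Q),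
      (∀ v ∈ V, v ^ p = 1) → Nat.card V ≤ p := by
    intro Q _ _ hQ V hV
    classical
    have := Fintype.ofFinite Q
    refine le_trans ?_ (IsCyclic.card_pow_eq_one_le hp.out.pos (α := Q))
    rw [Nat.card_eq_fintype_card, Fintype.card_subtype]
    exact Finset.card_le_card fun x hx => by
      simp only [Finset.mem_filter, Finset.mem_univ, true_and] at hx ⊢
      exact hV x hx
  have hker : Nat.card φ.ker ≤ p := by
    let g : φ.ker →* N := ((W.subtype.comp φ.ker.subtype)).codRestrict N fun x =>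
      (QuotientGroup.eq_one_iff _).mp x.2
    have hinj : Function.Injective g := fun x y hxy =>
      Subtype.ext (Subtype.ext (congrArg Subtype.val hxy :))
    rw [Nat.card_congr (MonoidHom.ofInjective hinj).toEquiv]
    refine hcard N hNc g.range ?_
    rintro _ ⟨x, rfl⟩
    rw [← map_pow, show x ^ p = 1 from Subtype.ext (Subtype.ext (by
      simpa using (hWp _).mp (x : W).2)), map_one]
  have hrange : Nat.card φ.range ≤ p := by
    refine hcard _ hQc φ.range ?_
    rintro _ ⟨x, rfl⟩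
    rw [← map_pow, show x ^ p = 1 from Subtype.ext (by simpa using (hWp _).mp x.2), map_one]
  rw [← φ.ker.card_mul_index, index_ker, pow_two]
  exact Nat.mul_le_mul hker hrange

variable {G : Type u} [Group G] [Finite G]

/-- BG 4.12: `[R, A]` is abelian. -/
theorem isMulCommutative_commutator_of_metacyclic (hp2 : p ≠ 2) {R A : Subgroup G}
    (hR : IsPGroup p R) (hm : Cfsg.IsMetacyclic R) (hA : A ≤ normalizer (R : Set G))
    (hcop : (Nat.card A).Coprime p) (hRA : ⁅R, A⁆ = R) : IsMulCommutative R := by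
  set f : A →* MulAut R := R.normalizerMonoidHom.comp (inclusion hA) with hf
  refine isMulCommutative_of_metacyclic_action hp2 hR hm f.range
    (hcop.coprime_dvd_left (card_range_dvd f)) ?_
  set L := closure {x : R | ∃ a ∈ f.range, ∃ s : R, x = s⁻¹ * a s} with hL
  rw [eq_top_iff]
  have hle : R ≤ L.map R.subtype := by
    refine le_trans hRA.ge (commutator_le.mpr fun s hs a ha => ?_)
    refine ⟨((⟨s, hs⟩ : R)⁻¹)⁻¹ * f ⟨a, ha⟩ (⟨s, hs⟩ : R)⁻¹,
      subset_closure ⟨_, ⟨_, rfl⟩, _, rfl⟩, ?_⟩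
    change ((((⟨s, hs⟩ : R)⁻¹)⁻¹ : R) : G) * (a * (((⟨s, hs⟩ : R)⁻¹ : R) : G) * a⁻¹) = ⁅s, a⁆
    simp [commutatorElement_def, mul_assoc]
  intro x _
  obtain ⟨y, hy, hyx⟩ := hle x.2
  rwa [← Subtype.ext hyx]

/-- BG 4.12. -/
theorem metacyclic_coprime_action (hp2 : p ≠ 2) {R A : Subgroup G} (hR : IsPGroup p R)
    (hRm : Cfsg.IsMetacyclic R) (hA : A ≤ normalizer (R : Set G)) (hcop : (Nat.card A).Coprime p) :
    IsMulCommutative ↥⁅R, A⁆ ∧ ⁅R, A⁆ ⊔ (R ⊓ centralizer (A : Set G)) = R ∧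
      ⁅R, A⁆ ⊓ (R ⊓ centralizer (A : Set G)) = ⊥ ∧
      (¬ IsMulCommutative R → ¬ A ≤ centralizer (R : Set G) →
        ⁅R, A⁆ ≠ ⊥ ∧ IsCyclic ↥⁅R, A⁆ ∧ (R ⊓ centralizer (A : Set G)) ≠ ⊥ ∧
          IsCyclic ↥(R ⊓ centralizer (A : Set G)) ∧ ⁅R, R⁆ ≤ ⁅R, A⁆) := by
  obtain ⟨k, hk⟩ := IsPGroup.iff_card.mp hR
  have hcop' : (Nat.card A).Coprime (Nat.card R) := hk ▸ hcop.pow_right k
  have hsolv : Group.IsSolvable A ∨ Group.IsSolvable R := Or.inr (by
    have := hR.isNilpotent
    infer_instance)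
  set S := ⁅R, A⁆ with hS
  set C := R ⊓ centralizer (A : Set G) with hC
  have hSR : S ≤ R := Coprime.commutator_le_left_of_normalizer hA
  have hSA : A ≤ normalizer (S : Set G) := fun a ha =>
    Coprime.mem_normalizer_commutator (hA ha) (le_normalizer ha)
  have hSS : ⁅S, A⁆ = S := Coprime.commutator_commutator_eq hA hcop' hsolv
  have hSc : IsMulCommutative S := isMulCommutative_commutator_of_metacyclic hp2 (hR.to_le hSR)
    (isMetacyclic_of_le hSR hRm) hSA hcop hSS
  have hsup : S ⊔ C = R := Coprime.commutator_sup_centralizer hA hcop' hsolv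
  have hinf : S ⊓ C = ⊥ := by
    obtain ⟨hd, -⟩ := Coprime.abelian_decomposition hSA
      (hcop'.coprime_dvd_right (card_dvd_of_le hSR))
    rw [hSS] at hd
    rw [eq_bot_iff]
    rintro x ⟨hx, hxC⟩
    exact hd.le ⟨⟨hx, hxC.2⟩, hx⟩
  refine ⟨hSc, hsup, hinf, fun hnab hnc => ?_⟩
  have hSn : S ≠ ⊥ := fun e => hnc (commutator_eq_bot_iff_le_centralizer.mp
    ((commutator_comm A R).trans e))
  have hCn : C ≠ ⊥ := fun e => hnab (by
    rw [e, sup_bot_eq] at hsup
    exact hsup ▸ hSc)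
  -- counting solutions of `x ^ p = 1`
  have hone : ∀ {H : Subgroup G}, H ≤ R → H ≠ ⊥ → 2 ≤ Nat.card {x : H // x ^ p = 1} := by
    intro H hH hne
    obtain ⟨x, hxH, hxo⟩ := PGroups.exists_orderOf_eq (G := H) (hR.to_le hH)
      (H := ⊤) (by
        intro e
        exact hne (eq_bot_iff.mpr fun y hy => by
          have := mem_top (⟨y, hy⟩ : H)
          rw [e, mem_bot] at this
          exact congrArg Subtype.val this))
    refine Finite.one_lt_card_iff_nontrivial.mpr
      ⟨⟨⟨x, hxo ▸ pow_orderOf_eq_one x⟩, ⟨1, one_pow p⟩, fun e => ?_⟩⟩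
    have h1 : x = 1 := congrArg Subtype.val e
    rw [h1, orderOf_one] at hxo
    exact hp.out.ne_one hxo.symm
  have hmul : Nat.card {x : S // x ^ p = 1} * Nat.card {x : C // x ^ p = 1} ≤ p ^ 2 := by
    rw [← Nat.card_prod]
    refine le_trans ?_ (card_pow_eq_one_le_of_metacyclic hp2 hR hRm)
    refine Nat.card_le_card_of_injective (fun q => ⟨⟨((q.1 : S) : G) * ((q.2 : C) : G),
      mul_mem (hSR (q.1 : S).2) (q.2 : C).2.1⟩, ?_⟩) ?_
    · obtain ⟨⟨s, hs⟩, ⟨c, hc⟩⟩ := q
      have hcomm : ((⟨(s : G) * (c : G), mul_mem (hSR s.2) c.2.1⟩ : R)) ^ p = 1 := by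
        have hreg := regularAt_of_metacyclic hp2 hR hRm
        have h := (PGroups.omegaSubgroup hR hreg).mul_mem
          (show (⟨(s : G), hSR s.2⟩ : R) ^ p ^ 1 = 1 from Subtype.ext (by
            simpa using congrArg Subtype.val hs))
          (show (⟨(c : G), c.2.1⟩ : R) ^ p ^ 1 = 1 from Subtype.ext (by
            simpa using congrArg Subtype.val hc))
        have h' : ((⟨(s : G), hSR s.2⟩ : R) * ⟨(c : G), c.2.1⟩) ^ p ^ 1 = 1 := h
        rwa [pow_one] at h'
      exact hcomm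
    · rintro ⟨⟨s, hs⟩, ⟨c, hc⟩⟩ ⟨⟨s', hs'⟩, ⟨c', hc'⟩⟩ h
      have h' : (s : G) * c = s' * c' :=
        congrArg (fun t : {x : R // x ^ p = 1} => ((t : R) : G)) h
      have h2 : (s' : G)⁻¹ * s = c' * (c : G)⁻¹ := by
        rw [inv_mul_eq_iff_eq_mul, ← mul_assoc, eq_mul_inv_iff_mul_eq, h']
      have h3 : (s' : G)⁻¹ * s ∈ S ⊓ C :=
        mem_inf.mpr ⟨mul_mem (inv_mem s'.2) s.2, h2 ▸ mul_mem c'.2 (inv_mem c.2)⟩
      rw [hinf, mem_bot] at h3
      have hs1 : s' = s := Subtype.ext (inv_mul_eq_one.mp h3)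
      rw [h3, eq_comm, mul_inv_eq_one] at h2
      have hc1 : c = c' := Subtype.ext h2.symm
      simp [hs1, hc1]
  have hb : ∀ a b : ℕ, 2 ≤ b → a * b ≤ p ^ 2 → (∃ j, a = p ^ j) → a ≤ p := by
    rintro _ b hb hab ⟨j, rfl⟩
    refine le_trans (Nat.pow_le_pow_right hp.out.pos (?_ : j ≤ 1)) (pow_one p).le
    by_contra hj
    have := Nat.pow_le_pow_right hp.out.pos (show 2 ≤ j by omega)
    nlinarith [pow_pos hp.out.pos 2]
  have hSp : ∃ j, Nat.card {x : S // x ^ p = 1} = p ^ j := by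
    let W : Subgroup S :=
      { carrier := {x | x ^ p = 1}
        one_mem' := one_pow p
        mul_mem' := fun {x y} hx hy => by
          change (x * y) ^ p = 1
          rw [(show Commute x y from mul_comm' x y).mul_pow, hx, hy, one_mul]
        inv_mem' := fun {x} hx => by
          change x⁻¹ ^ p = 1
          rw [inv_pow, hx, inv_one] }
    obtain ⟨j, hj⟩ := IsPGroup.iff_card.mp ((hR.to_le hSR).to_subgroup W)
    exact ⟨j, hj⟩
  have hS1 : Nat.card {x : S // x ^ p = 1} ≤ p :=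
    hb _ _ (hone inf_le_left hCn) hmul hSp
  have hScyc : IsCyclic S := H61.isCyclic_of_card_pow_eq_one_le hp2 (hR.to_le hSR) hS1
  have hSp' : p ≤ Nat.card {x : S // x ^ p = 1} := by
    obtain ⟨j, hj⟩ := hSp
    have h2 := hone hSR hSn
    rw [hj] at h2 ⊢
    refine Nat.le_self_pow ?_ p
    rintro rfl
    simp at h2
  have hC1 : Nat.card {x : C // x ^ p = 1} ≤ p := by
    refine Nat.le_of_mul_le_mul_left ?_ hp.out.pos
    calc p * Nat.card {x : C // x ^ p = 1}
        ≤ Nat.card {x : S // x ^ p = 1} * Nat.card {x : C // x ^ p = 1} :=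
          Nat.mul_le_mul_right _ hSp'
      _ ≤ p * p := hmul.trans (pow_two p).le
  have hCcyc : IsCyclic C := H61.isCyclic_of_card_pow_eq_one_le hp2 (hR.to_le inf_le_left) hC1
  refine ⟨hSn, hScyc, hCn, hCcyc, ?_⟩
  have hmem : ∀ x ∈ R, ∃ s ∈ S, ∃ c ∈ C, x = s * c := by
    intro x hx
    rw [← hsup] at hx
    obtain ⟨s, hs, c, hc, rfl⟩ := (Coprime.mem_sup_iff
      (inf_le_left.trans (normalizer_commutator_ge_left R A))).mp hx
    exact ⟨s, hs, c, hc, rfl⟩
  refine commutator_le.mpr fun x hx y hy => ?_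
  obtain ⟨s, hs, c, hc, rfl⟩ := hmem x hx
  obtain ⟨t, ht, d, hd, rfl⟩ := hmem y hy
  have hn : ∀ g ∈ C, ∀ z ∈ S, g * z * g⁻¹ ∈ S := fun g hg z hz =>
    Coprime.conj_mem (normalizer_commutator_ge_left R A hg.1) hz
  have hcd : c * d = d * c := PGroups.comm_of_isMulCommutative inferInstance hc hd
  have e : ⁅s * c, t * d⁆ =
      s * (c * t * c⁻¹) * ((d * s * d⁻¹)⁻¹) * t⁻¹ := by
    calc ⁅s * c, t * d⁆ = s * (c * t * c⁻¹) * (c * d * c⁻¹) * s⁻¹ * d⁻¹ * t⁻¹ := by
          rw [commutatorElement_def]; group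
      _ = s * (c * t * c⁻¹) * d * s⁻¹ * d⁻¹ * t⁻¹ := by rw [hcd, mul_inv_cancel_right]
      _ = _ := by group
  rw [e]
  exact mul_mem (mul_mem (mul_mem hs (hn c hc t ht)) (inv_mem (hn d hd s hs))) (inv_mem ht)

end Cfsg.Agent.OddOrder.BG4
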