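import Cfsg.Agent.OddOrder.BG4.OmegaAction
import Cfsg.Agent.OddOrder.BG4.MetacyclicSplit
import Cfsg.Agent.OddOrder.BG4.RankTwoGroup
import Cfsg.Agent.PGroups.RankTwo

/-!
BG 4.16: a rank two `p`-group `R = [R, A]` with an operator group `A` of odd order.
-/

set_option autoImplicit false

namespace Cfsg.Agent.OddOrder.BG4

open Subgroup
open scoped commutatorElement

universe u

variable {G : Type u} [Group G] [Finite G] {p : ℕ} [hp : Fact p.Prime]

/-- A nontrivial odd operator group forces `p > 3`. -/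
theorem three_lt_of_odd_operator (hp2 : p ≠ 2) {R A : Subgroup G} (hR : IsPGroup p R) (hR1 : R ≠ ⊥)
    (hr : Cfsg.PRankLE p 2 R) (hA : A ≤ normalizer (R : Set G)) (hcop : (Nat.card A).Coprime p)
    (hAodd : Odd (Nat.card A)) (hRA : ⁅R, A⁆ = R) : 3 < p := by
  have hAC : ¬ A ≤ centralizer (R : Set G) := fun h => hR1 (by
    rw [← hRA, commutator_comm]
    exact commutator_eq_bot_iff_le_centralizer.mpr h)
  set C := (centralizer (R : Set G)).subgroupOf A with hC
  have hCtop : C ≠ ⊤ := fun h => hAC (subgroupOf_eq_top.mp h)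
  obtain ⟨q, hq, hqd⟩ := Nat.exists_prime_and_dvd (mt index_eq_one.mp hCtop)
  have : Fact q.Prime := ⟨hq⟩
  obtain ⟨S⟩ := (inferInstance : Nonempty (Sylow q A))
  obtain ⟨x, hxS, hxC⟩ := SetLike.not_le_iff_exists.mp fun hle : (S : Subgroup A) ≤ C =>
    S.not_dvd_index (hqd.trans (index_dvd_of_le hle))
  obtain ⟨k, hk⟩ := IsPGroup.iff_orderOf.mp S.isPGroup' ⟨x, hxS⟩
  rw [Subgroup.orderOf_mk, ← Subgroup.orderOf_coe] at hk
  have hqA : q ∣ Nat.card A := hqd.trans C.index_dvd_card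
  have hqp : q ≠ p := fun e => by
    subst e
    exact hq.coprime_iff_not_dvd.mp hcop.symm hqA
  have hq2 : q ≠ 2 := fun e => by
    subst e
    exact (Nat.not_even_iff_odd.mpr hAodd) (even_iff_two_dvd.mpr hqA)
  have := lt_of_dvd_pred_or_succ hq hq2 hp2
    (prime_dvd_of_small_action hp2 hR hr (hA x.2) hq hqp hk hxC)
  have := hq.two_le
  omega

omit [Finite G] in
/-- The operator group, inside the automorphism group. -/
theorem closure_range_eq_top {R A : Subgroup G} (hA : A ≤ normalizer (R : Set G))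
    (hRA : ⁅R, A⁆ = R) :
    closure {x : R | ∃ a ∈ (R.normalizerMonoidHom.comp (inclusion hA)).range, ∃ s : R,
      x = s⁻¹ * a s} = ⊤ := by
  set f : A →* MulAut R := R.normalizerMonoidHom.comp (inclusion hA) with hf
  set L := closure {x : R | ∃ a ∈ f.range, ∃ s : R, x = s⁻¹ * a s} with hL
  rw [eq_top_iff]
  have hle : R ≤ L.map R.subtype := by
    refine le_trans hRA.ge (commutator_le.mpr fun s hs a ha => ?_)
    refine ⟨((⟨s, hs⟩ : R)⁻¹)⁻¹ * f ⟨a, ha⟩ (⟨s, hs⟩ : R)⁻¹,
      subset_closure ⟨_, ⟨_, rfl⟩, _, rfl⟩, ?_⟩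
    change ((((⟨s, hs⟩ : R)⁻¹)⁻¹ : R) : G) * (a * (((⟨s, hs⟩ : R)⁻¹ : R) : G) * a⁻¹) = ⁅s, a⁆
    simp [commutatorElement_def, mul_assoc]
  intro x _
  obtain ⟨y, hy, hyx⟩ := hle x.2
  rwa [← Subtype.ext hyx]

/-- BG 4.16, inside `R`. -/
theorem odd_operator_omega (hp2 : p ≠ 2) {R A : Subgroup G} (hR : IsPGroup p R) (hR1 : R ≠ ⊥)
    (hr : Cfsg.PRankLE p 2 R) (hA : A ≤ normalizer (R : Set G)) (hcop : (Nat.card A).Coprime p)
    (hAodd : Odd (Nat.card A)) (hRA : ⁅R, A⁆ = R) (hnab : ¬ IsMulCommutative R) :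
    ∃ E : Subgroup R, (∀ x : R, x ∈ E ↔ x ^ p = 1) ∧ Nat.card E = p ^ 3 ∧ ¬ IsMulCommutative E ∧
      E ⊔ centralizer (E : Set R) = ⊤ ∧ IsCyclic ↥(centralizer (E : Set R)) ∧
      ∀ x ∈ centralizer (E : Set R), x ^ p = 1 → x ∈ ⁅E, E⁆ := by
  have hp3 := three_lt_of_odd_operator hp2 hR hR1 hr hA hcop hAodd hRA
  have hrk : ∀ B : Subgroup R, Cfsg.IsElementaryAbelian p B → Nat.card B ≤ p ^ 2 :=
    fun B hB => hr B hB.1 hB.2
  let E : Subgroup R :=
    { carrier := {x | x ^ p = 1}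
      one_mem' := one_pow p
      mul_mem' := fun {x y} hx hy =>
        PGroups.mul_pow_eq_one_of_rank_two hp3 _ R le_rfl hR hrk x y hx hy
      inv_mem' := fun {x} hx => by
        change x⁻¹ ^ p = 1
        rw [inv_pow, hx, inv_one] }
  have hE : ∀ x : R, x ∈ E ↔ x ^ p = 1 := fun x => Iff.rfl
  have hexp : ∀ x : E, x ^ p = 1 := fun x => Subtype.ext (by simpa using (hE x).mp x.2)
  have hle : Nat.card E ≤ p ^ 3 := PGroups.card_le_of_exponent_rank_two (hR.to_subgroup E) hexp
    (PGroups.rank_le_subgroup hrk E)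
  by_cases hsmall : Nat.card E ≤ p ^ 2
  · exfalso
    refine hnab (isMulCommutative_commutator_of_metacyclic hp2 hR ?_ hA hcop hRA)
    refine PGroups.isMetacyclic_of_small_omega hp3 _ R le_rfl hR (le_trans ?_ hsmall)
    refine card_le_of_le ((closure_le E).mpr ?_)
    exact fun x hx => hx.2
  have hcard : Nat.card E = p ^ 3 := by
    obtain ⟨i, hi⟩ := IsPGroup.iff_card.mp (hR.to_subgroup E)
    rw [hi] at hle hsmall ⊢
    rw [Nat.pow_le_pow_iff_right hp.out.one_lt] at hle hsmall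
    congr 1
    omega
  have hnc : ¬ IsMulCommutative E := fun h =>
    hsmall (hrk E ⟨h, fun x hx => (hE x).mp hx⟩)
  set f : A →* MulAut R := R.normalizerMonoidHom.comp (inclusion hA) with hf
  obtain ⟨h1, h2, h3⟩ := omega_sup_centralizer hp2 hR hE hcard hnc f.range
    (hAodd.of_dvd_nat (card_range_dvd f)) (closure_range_eq_top hA hRA)
  exact ⟨E, hE, hcard, hnc, h1, h2, h3⟩

/-- BG 4.16. -/
theorem odd_operator_structure (hp2 : p ≠ 2) {R A : Subgroup G} (hR : IsPGroup p R) (hR1 : R ≠ ⊥)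
    (hr : Cfsg.PRankLE p 2 R) (hA : A ≤ normalizer (R : Set G)) (hcop : (Nat.card A).Coprime p)
    (hAodd : Odd (Nat.card A)) (hRA : ⁅R, A⁆ = R) :
    3 < p ∧ (IsMulCommutative R ∨ ∃ R₁ R₂ : Subgroup G, R₁ ⊔ R₂ = R ∧
        (∀ a ∈ R₁, ∀ b ∈ R₂, a * b = b * a) ∧
        ¬ IsMulCommutative R₁ ∧ Nat.card R₁ = p ^ 3 ∧ Monoid.exponent R₁ = p ∧ IsCyclic R₂ ∧
        Subgroup.closure {x : G | x ∈ R₂ ∧ x ^ p = 1} = ⁅R₁, R₁⁆) := by
  refine ⟨three_lt_of_odd_operator hp2 hR hR1 hr hA hcop hAodd hRA,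
    or_iff_not_imp_left.mpr fun hnab => ?_⟩
  obtain ⟨E, hE, hcard, hnc, hsup, hcyc, hom⟩ :=
    odd_operator_omega hp2 hR hR1 hr hA hcop hAodd hRA hnab
  refine ⟨E.map R.subtype, (centralizer (E : Set R)).map R.subtype, ?_, ?_, ?_, ?_, ?_, ?_, ?_⟩
  · rw [← Subgroup.map_sup, hsup, ← MonoidHom.range_eq_map, range_subtype]
  · rintro _ ⟨a, ha, rfl⟩ _ ⟨b, hb, rfl⟩
    rw [← map_mul, ← map_mul, mem_centralizer_iff.mp hb a ha]
  · intro h
    refine hnc (PGroups.isMulCommutative_of_comm fun x hx y hy => R.subtype_injective ?_)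
    rw [map_mul, map_mul]
    exact PGroups.comm_of_isMulCommutative h (mem_map_of_mem _ hx) (mem_map_of_mem _ hy)
  · rw [card_map_of_injective R.subtype_injective, hcard]
  · rw [← Monoid.exponent_eq_of_mulEquiv (E.equivMapOfInjective R.subtype R.subtype_injective)]
    have hd : Monoid.exponent E ∣ p :=
      Monoid.exponent_dvd_of_forall_pow_eq_one fun x => Subtype.ext (by simpa using (hE x).mp x.2)
    refine ((Nat.dvd_prime hp.out).mp hd).resolve_left fun h => ?_
    have : Subsingleton E := Monoid.exp_eq_one_iff.mp h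
    rw [Nat.card_unique] at hcard
    exact absurd hcard (Nat.one_lt_pow (by norm_num) hp.out.one_lt).ne
  · exact isCyclic_of_surjective _
      ((centralizer (E : Set R)).equivMapOfInjective R.subtype R.subtype_injective).surjective
  · rw [← map_commutator]
    obtain ⟨hZcard, hinf⟩ := omega_cube_structure hR hcard hnc
    refine le_antisymm ((closure_le _).mpr ?_) ?_
    · rintro _ ⟨⟨x, hx, rfl⟩, hxp⟩
      exact mem_map_of_mem _ (hom x hx (R.subtype_injective (by simpa using hxp)))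
    · rintro _ ⟨x, hx, rfl⟩
      have h1 := hinf.ge hx
      exact subset_closure ⟨mem_map_of_mem _ (mem_inf.mp h1).2,
        by rw [← map_pow, (hE x).mp (mem_inf.mp h1).1, map_one]⟩

/-- An operator of prime order not dividing `p - 1` gives order `p ^ 3`. -/
theorem card_eq_cube_of_prime_operator (hp2 : p ≠ 2) {R A : Subgroup G} (hR : IsPGroup p R)
    (hr : Cfsg.PRankLE p 2 R) (hA : A ≤ normalizer (R : Set G)) (hq : (Nat.card A).Prime)
    (hAodd : Odd (Nat.card A)) (hnd : ¬ Nat.card A ∣ p * (p - 1)) (hRA : ⁅R, A⁆ = R)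
    (hnab : ¬ IsMulCommutative R) : Nat.card R = p ^ 3 := by
  have hR1 : R ≠ ⊥ := fun e => hnab (by rw [e]; infer_instance)
  have hqp : Nat.card A ≠ p := fun e => hnd (by rw [e]; exact dvd_mul_right p _)
  obtain ⟨E, hE, hcard, -, hsup, hcyc, -⟩ := odd_operator_omega hp2 hR hR1 hr hA
    ((Nat.coprime_primes hq hp.out).mpr hqp) hAodd hRA hnab
  suffices h : E = ⊤ by rw [← hcard, h, card_top]
  have hEc : E.Characteristic := characteristic_iff_le_comap.mpr fun φ x hx => by
    change φ x ∈ E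
    rw [hE, ← map_pow, (hE x).mp hx, map_one]
  have hEn : E.Normal := normal_of_characteristic (h := hEc) E
  have hQc : (centralizer (E : Set R)).Characteristic := centralizer_char hEc
  set f : A →* MulAut R := R.normalizerMonoidHom.comp (inclusion hA) with hf
  have hfix : ∀ a : A, ∀ x ∈ centralizer (E : Set R), f a x = x := by
    intro a x hx
    set Q := centralizer (E : Set R) with hQ
    have hQn : Q.Normal := normal_of_characteristic (h := hQc) Q
    let g : A →* MulAut Q :=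
      { toFun := fun b => ((f b).subgroupMap Q).trans
          (MulEquiv.subgroupCongr (Subgroup.characteristic_iff_map_eq.mp hQc (f b)))
        map_one' := MulEquiv.ext fun y => Subtype.ext (by
          change f 1 (y : R) = y
          rw [map_one]
          rfl)
        map_mul' := fun b c => MulEquiv.ext fun y => Subtype.ext (by
          change f (b * c) (y : R) = f b (f c y)
          rw [map_mul]
          rfl) }
    have hg1 : g a = 1 := by
      obtain ⟨c, hc⟩ := IsPGroup.iff_card.mp (hR.to_subgroup Q)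
      have hcop : (Nat.card A).Coprime (p ^ c * (p - 1)) :=
        Nat.Coprime.mul_right (((Nat.coprime_primes hq hp.out).mpr hqp).pow_right c)
          (hq.coprime_iff_not_dvd.mpr fun h => hnd (h.mul_left p))
      refine orderOf_eq_one_iff.mp (Nat.eq_one_of_dvd_coprimes hcop
        ((orderOf_map_dvd g a).trans (orderOf_dvd_natCard a)) ?_)
      refine (orderOf_dvd_natCard (g a)).trans ?_
      rw [IsCyclic.card_mulAut, hc]
      rcases c with _ | c
      · simp
      · rw [Nat.totient_prime_pow_succ hp.out, pow_succ]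
        exact mul_dvd_mul_right (dvd_mul_right _ _) _
    exact congrArg (fun φ : MulAut Q => ((φ ⟨x, hx⟩ : Q) : R)) hg1
  rw [eq_top_iff, ← closure_range_eq_top hA hRA, closure_le]
  rintro _ ⟨_, ⟨a, rfl⟩, s, rfl⟩
  have hs : s ∈ E ⊔ centralizer (E : Set R) := hsup.ge (mem_top s)
  obtain ⟨e, he, q, hq', rfl⟩ := mem_sup_of_normal_left.mp hs
  change (e * q)⁻¹ * f a (e * q) ∈ E
  rw [map_mul, hfix a q hq', show (e * q)⁻¹ * (f a e * q) = q⁻¹ * (e⁻¹ * f a e) * q⁻¹⁻¹ by group]
  exact hEn.conj_mem _ (mul_mem (inv_mem he)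
    ((PGroups.apply_mem_iff_of_characteristic hEc (f a)).mpr he)) q⁻¹

end Cfsg.Agent.OddOrder.BG4
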