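import Cfsg.Prelude.Def_OddOrderLocal
import Cfsg.Agent.PGroups.Commutator
import Cfsg.Agent.PGroups.MaxAbelian
import Cfsg.Agent.PGroups.Critical

/-!
BG 4.12: a metacyclic `p`-group equal to its commutator with a `p'`-group of automorphisms is abelian.
-/

set_option autoImplicit false

namespace Cfsg.Agent.OddOrder.BG4

open Subgroup
open scoped commutatorElement

universe u

variable {S : Type u} [Group S] [Finite S] {p : ℕ} [hp : Fact p.Prime]

/-- Fixed points on an abelian quotient of `S = [S, A]`, `A` of coprime order, are trivial. -/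
theorem mem_of_fixed_mod (hS : IsPGroup p S) (A : Subgroup (MulAut S))
    (hcop : (Nat.card A).Coprime p)
    (hgen : closure {x : S | ∃ a ∈ A, ∃ s : S, x = s⁻¹ * a s} = ⊤) (D : Subgroup S)
    (hD : commutator S ≤ D) (w : S) (hw : ∀ a ∈ A, w⁻¹ * a w ∈ D) : w ∈ D := by
  classical
  have hDn : D.Normal := Normal.of_commutator_le S hD
  let _ : CommGroup (S ⧸ D) :=
    { (inferInstance : Group (S ⧸ D)) with
      mul_comm := fun x y => by
        induction x using QuotientGroup.induction_on with | _ a =>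
        induction y using QuotientGroup.induction_on with | _ b =>
        rw [← QuotientGroup.mk_mul, ← QuotientGroup.mk_mul, QuotientGroup.eq]
        refine hD ?_
        rw [show (a * b)⁻¹ * (b * a) = ⁅b⁻¹, a⁻¹⁆ by rw [commutatorElement_def]; group]
        exact commutator_mem_commutator (mem_top _) (mem_top _) }
  have := Fintype.ofFinite A
  let ν : S →* S ⧸ D := ∏ a : A, (QuotientGroup.mk' D).comp (a : MulAut S).toMonoidHom
  have happ : ∀ s, ν s = ∏ a : A, (QuotientGroup.mk ((a : MulAut S) s) : S ⧸ D) := fun s =>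
    MonoidHom.finsetProd_apply _ _ s
  have hinv : ∀ b ∈ A, ∀ s, ν (b s) = ν s := by
    intro b hb s
    rw [happ, happ]
    exact Fintype.prod_equiv (Equiv.mulRight (⟨b, hb⟩ : A)) _ _ fun a => rfl
  have hker : ν.ker = ⊤ := by
    rw [← top_le_iff, ← hgen, closure_le]
    rintro _ ⟨a, ha, s, rfl⟩
    change ν (s⁻¹ * a s) = 1
    rw [map_mul, hinv a ha, map_inv, inv_mul_cancel]
  have h1 : ν w = 1 := hker.ge (mem_top w)
  have h2 : ∀ a : A, (QuotientGroup.mk ((a : MulAut S) w) : S ⧸ D) = QuotientGroup.mk w :=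
    fun a => (QuotientGroup.eq.mpr (hw a a.2)).symm
  rw [happ, Finset.prod_congr rfl (fun a _ => h2 a), Finset.prod_const, Finset.card_univ,
    ← Nat.card_eq_fintype_card] at h1
  rw [← QuotientGroup.eq_one_iff, ← orderOf_eq_one_iff]
  obtain ⟨j, hj⟩ := IsPGroup.iff_orderOf.mp (hS.to_quotient D) (QuotientGroup.mk w)
  exact Nat.eq_one_of_dvd_coprimes (hcop.pow_right j) (orderOf_dvd_of_pow_eq_one h1) hj.dvd

/-- The subgroup generated by the `p ^ k`-th powers. -/
def powSub (p k : ℕ) (S : Type u) [Group S] : Subgroup S :=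
  closure (Set.range fun w : S => w ^ p ^ k)

omit [Finite S] hp in
theorem powSub_characteristic (k : ℕ) : (powSub p k S).Characteristic := by
  rw [characteristic_iff_le_comap]
  intro φ
  rw [powSub, closure_le]
  rintro _ ⟨w, rfl⟩
  exact subset_closure ⟨φ w, (map_pow φ.toMonoidHom w _).symm⟩

omit [Finite S] in
/-- Alternating form bookkeeping in a class two group with two generators. -/
theorem commutatorElement_zpow_mul {a b : S} (hc : commutator S ≤ center S) (i j l m : ℤ) :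
    ⁅a ^ i * b ^ j, a ^ l * b ^ m⁆ = ⁅a, b⁆ ^ (i * m - j * l) := by
  have hmem : ∀ x y : S, ⁅x, y⁆ ∈ center S := fun x y =>
    hc (commutator_mem_commutator (mem_top x) (mem_top y))
  let L : S → (S →* S) := fun y =>
    MonoidHom.mk' (fun x => ⁅x, y⁆) fun x x' =>
      PGroups.commutatorElement_mul_left_of_mem_center (hmem x' y)
  let T : S → (S →* S) := fun x =>
    MonoidHom.mk' (fun y => ⁅x, y⁆) fun y y' =>
      PGroups.commutatorElement_mul_right_of_mem_center (hmem x y')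
  have hl : ∀ (x y : S) (n : ℤ), ⁅x ^ n, y⁆ = ⁅x, y⁆ ^ n := fun x y n => map_zpow (L y) x n
  have hr : ∀ (x y : S) (n : ℤ), ⁅x, y ^ n⁆ = ⁅x, y⁆ ^ n := fun x y n => map_zpow (T x) y n
  have e1 : ⁅a ^ i * b ^ j, a ^ l * b ^ m⁆ =
      ⁅a ^ i, a ^ l⁆ * ⁅a ^ i, b ^ m⁆ * (⁅b ^ j, a ^ l⁆ * ⁅b ^ j, b ^ m⁆) := by
    rw [PGroups.commutatorElement_mul_left_of_mem_center (hmem _ _),
      PGroups.commutatorElement_mul_right_of_mem_center (hmem _ _),
      PGroups.commutatorElement_mul_right_of_mem_center (hmem _ _)]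
  rw [e1, hl, hr, hl a, hr a b, hl b, hr b a, hl b, hr b b, commutatorElement_self,
    commutatorElement_self, ← commutatorElement_inv a b]
  simp only [one_zpow, mul_one, one_mul, ← zpow_mul, inv_zpow', ← zpow_add]
  congr 1
  ring

/-- BG 4.12, the abelian part. -/
theorem isMulCommutative_of_metacyclic_action (hp2 : p ≠ 2) (hS : IsPGroup p S)
    (hm : Cfsg.IsMetacyclic S) (A : Subgroup (MulAut S)) (hcop : (Nat.card A).Coprime p)
    (hgen : closure {x : S | ∃ a ∈ A, ∃ s : S, x = s⁻¹ * a s} = ⊤) :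
    IsMulCommutative S := by
  obtain ⟨N, hNn, hNc, hQc⟩ := hm
  obtain ⟨⟨a0, ha0⟩, hN⟩ := IsCyclic.exists_generator (α := N)
  obtain ⟨q0, hq⟩ := IsCyclic.exists_generator (α := S ⧸ N)
  obtain ⟨b0, rfl⟩ := QuotientGroup.mk_surjective q0
  have hNa : ∀ x ∈ N, ∃ i : ℤ, x = a0 ^ i := fun x hx => by
    obtain ⟨i, hi⟩ := mem_zpowers_iff.mp (hN ⟨x, hx⟩)
    exact ⟨i, (congrArg Subtype.val hi).symm⟩
  have hcoord : ∀ x : S, ∃ i j : ℤ, x = a0 ^ i * b0 ^ j := by
    intro x
    obtain ⟨j, hj⟩ := mem_zpowers_iff.mp (hq (QuotientGroup.mk x))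
    rw [← QuotientGroup.mk_zpow, QuotientGroup.eq] at hj
    obtain ⟨i, hi⟩ := hNa _ (hNn.conj_mem _ hj (b0 ^ j))
    exact ⟨i, j, by rw [← hi]; group⟩
  have hle : commutator S ≤ N := by
    rw [_root_.commutator_def, Subgroup.commutator_le]
    intro x _ y _
    have := hQc
    rw [← QuotientGroup.eq_one_iff]
    change QuotientGroup.mk' N ⁅x, y⁆ = 1
    rw [map_commutatorElement, commutatorElement_eq_one_iff_mul_comm]
    exact mul_comm' _ _
  -- the derived subgroup is central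
  have hcen : commutator S ≤ center S := by
    have hall : ∀ s : S, ∀ d ∈ commutator S, s * d * s⁻¹ = d → s ∈ centralizer ({d} : Set S) :=
      fun s d _ h => mem_centralizer_singleton_iff.mpr (mul_inv_eq_iff_eq_mul.mp h)
    have hexp : ∀ s : S, ∃ r : ℤ, ∀ d ∈ commutator S, s * d * s⁻¹ = d ^ r := by
      intro s
      have hcyc : IsCyclic (commutator S) :=
        isCyclic_of_surjective _ (subgroupOfEquivOfLe hle).surjective
      obtain ⟨⟨c, hc⟩, hg⟩ := IsCyclic.exists_generator (α := commutator S)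
      obtain ⟨r, hr⟩ := mem_zpowers_iff.mp
        (hg ⟨s * c * s⁻¹, (inferInstance : (commutator S).Normal).conj_mem c hc s⟩)
      refine ⟨r, fun d hd => ?_⟩
      obtain ⟨i, hi⟩ := mem_zpowers_iff.mp (hg ⟨d, hd⟩)
      have hi' : c ^ i = d := congrArg Subtype.val hi
      have hr' : c ^ r = s * c * s⁻¹ := congrArg Subtype.val hr
      rw [← hi', ← conj_zpow, ← hr', ← zpow_mul, ← zpow_mul, mul_comm]
    intro d hd
    refine Subgroup.mem_center_iff.mpr fun s => ?_
    have htop : (⊤ : Subgroup S) ≤ centralizer ({d} : Set S) := by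
      rw [← hgen, closure_le]
      rintro _ ⟨a, ha, s, rfl⟩
      refine hall _ d hd ?_
      obtain ⟨r, hr⟩ := hexp s
      have hd' : a⁻¹ d ∈ commutator S :=
        (PGroups.apply_mem_iff_of_characteristic inferInstance a⁻¹).mpr hd
      have e1 : a s * d * (a s)⁻¹ = d ^ r := by
        have := congrArg a (hr _ hd')
        rwa [map_mul, map_mul, map_inv, map_zpow, MulAut.apply_inv_self] at this
      calc s⁻¹ * a s * d * (s⁻¹ * a s)⁻¹ = s⁻¹ * (a s * d * (a s)⁻¹) * s := by group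
        _ = s⁻¹ * (s * d * s⁻¹) * s := by rw [e1, hr d hd]
        _ = d := by group
    exact (mem_centralizer_singleton_iff.mp (htop (mem_top s)))
  by_contra hnc
  set c := ⁅a0, b0⁆ with hc
  have hcomm : ∀ i j l m : ℤ, ⁅a0 ^ i * b0 ^ j, a0 ^ l * b0 ^ m⁆ = c ^ (i * m - j * l) :=
    commutatorElement_zpow_mul hcen
  have hallc : ∀ x y : S, ∃ e : ℤ, ⁅x, y⁆ = c ^ e := by
    intro x y
    obtain ⟨i, j, rfl⟩ := hcoord x
    obtain ⟨l, m, rfl⟩ := hcoord y
    exact ⟨_, hcomm i j l m⟩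
  have hc1 : c ≠ 1 := fun e => hnc ⟨⟨fun x y => by
    obtain ⟨i, hi⟩ := hallc x y
    rw [e, one_zpow, commutatorElement_eq_one_iff_mul_comm] at hi
    exact hi⟩⟩
  have hcmem : c ∈ commutator S := commutator_mem_commutator (mem_top a0) (mem_top b0)
  have hgenc : commutator S ≤ zpowers c := by
    rw [_root_.commutator_def, Subgroup.commutator_le]
    intro x _ y _
    obtain ⟨e, he⟩ := hallc x y
    exact he ▸ zpow_mem (mem_zpowers c) e
  obtain ⟨k', hk'⟩ := IsPGroup.iff_orderOf.mp hS c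
  obtain ⟨n, rfl⟩ : ∃ n, k' = n + 1 := ⟨k' - 1, by
    have : k' ≠ 0 := fun e => hc1 (orderOf_eq_one_iff.mp (by rw [hk', e, pow_zero]))
    omega⟩
  set z := c ^ (p ^ n) with hz
  have hzo : orderOf z = p := by
    rw [hz, orderOf_pow, hk', Nat.gcd_eq_right (pow_dvd_pow p (Nat.le_succ n)), pow_succ,
      Nat.mul_div_cancel_left _ (pow_pos hp.out.pos n)]
  have hzz : ∀ e : ℤ, z ^ e = 1 ↔ (p : ℤ) ∣ e := fun e => by
    rw [← orderOf_dvd_iff_zpow_eq_one, hzo]
  -- `c` is a `p`-th power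
  obtain ⟨w0, hw0⟩ : ∃ w : S, c = w ^ p := by
    obtain ⟨t, ht⟩ := hNa c (hle hcmem)
    by_cases hd : (p : ℤ) ∣ t
    · obtain ⟨t', rfl⟩ := hd
      exact ⟨a0 ^ t', by rw [ht, mul_comm, zpow_mul, zpow_natCast]⟩
    · exfalso
      obtain ⟨j, hj⟩ := IsPGroup.iff_orderOf.mp hS a0
      obtain ⟨u, v, huv⟩ : IsCoprime t ((p : ℤ) ^ j) :=
        ((Nat.prime_iff_prime_int.mp hp.out).coprime_iff_not_dvd.mpr hd).symm.pow_right
      have ha : a0 ∈ center S := by
        have : a0 = c ^ u := by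
          have h1 : a0 ^ ((p : ℤ) ^ j) = 1 := by
            rw [← Nat.cast_pow, zpow_natCast, ← hj, pow_orderOf_eq_one]
          calc a0 = a0 ^ (u * t + v * (p : ℤ) ^ j) := by rw [huv, zpow_one]
            _ = c ^ u := by
              rw [zpow_add, mul_comm v, zpow_mul a0 ((p : ℤ) ^ j) v, h1, one_zpow, mul_one,
                mul_comm u, zpow_mul, ← ht]
        rw [this]
        exact zpow_mem (hcen hcmem) u
      exact hc1 (commutatorElement_eq_one_iff_mul_comm.mpr (Subgroup.mem_center_iff.mp ha b0).symm)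
  have hpow_of_comm : ∀ d ∈ commutator S, ∃ w : S, d = w ^ p := by
    intro d hd
    obtain ⟨e, rfl⟩ := mem_zpowers_iff.mp (hgenc hd)
    exact ⟨w0 ^ e, by rw [hw0, ← zpow_natCast, ← zpow_mul, mul_comm, zpow_mul, zpow_natCast]⟩
  -- the highest level of powers containing `z`
  have hex : ∃ k, z ∉ powSub p (k + 1) S := by
    obtain ⟨K, hK⟩ := IsPGroup.iff_card.mp hS
    refine ⟨K, fun hmem => ?_⟩
    have hbot : powSub p (K + 1) S = ⊥ := by
      rw [powSub, eq_bot_iff, closure_le]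
      rintro _ ⟨w, rfl⟩
      change w ^ p ^ (K + 1) = 1
      rw [pow_succ, pow_mul, ← hK, pow_card_eq_one', one_pow]
    rw [hbot, mem_bot] at hmem
    rw [hmem, orderOf_one] at hzo
    exact hp.out.ne_one hzo.symm
  classical
  set k := Nat.find hex with hk
  have hk1 : z ∉ powSub p (k + 1) S := Nat.find_spec hex
  have hk2 : z ∈ powSub p k S := by
    rcases Nat.eq_zero_or_pos k with h0 | h0
    · rw [h0, powSub]
      exact subset_closure ⟨z, by simp⟩
    · have := Nat.find_min hex (m := k - 1) (by omega)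
      rw [not_not, Nat.sub_add_cancel h0] at this
      exact this
  set P := powSub p (k + 1) S with hP
  have hPc : P.Characteristic := powSub_characteristic _
  have hPn : P.Normal := normal_of_characteristic (h := hPc) P
  let f : S →* S ⧸ P := MonoidHom.mk' (fun s => QuotientGroup.mk (s ^ p ^ k)) fun x y => by
    have hcy : ⁅y, x⁆ ∈ commutator S := commutator_mem_commutator (mem_top y) (mem_top x)
    rw [PGroups.mul_pow_of_commutator_mem_center (hcen hcy), QuotientGroup.mk_mul,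
      QuotientGroup.mk_mul]
    obtain ⟨l, hl⟩ := PGroups.dvd_choose_two_pow (p := p) hp.out hp2 k
    obtain ⟨w, hw⟩ := hpow_of_comm _ hcy
    have : ⁅y, x⁆ ^ (p ^ k).choose 2 ∈ P := by
      rw [hl, pow_mul, hw, ← pow_mul w p, ← pow_succ']
      exact pow_mem (subset_closure (Set.mem_range_self w)) l
    rw [(QuotientGroup.eq_one_iff _).mpr this, mul_one]
  have hf : ∀ s, f s = QuotientGroup.mk (s ^ p ^ k) := fun s => rfl
  have hfp : ∀ s, f s ^ p = 1 := by
    intro s
    rw [hf, ← QuotientGroup.mk_pow, ← pow_mul, ← pow_succ, QuotientGroup.eq_one_iff]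
    exact subset_closure (Set.mem_range_self s)
  have hfc : ∀ d ∈ commutator S, f d = 1 := by
    intro d hd
    obtain ⟨w, rfl⟩ := hpow_of_comm d hd
    rw [map_pow, hfp]
  have hfcomm : ∀ x y, Commute (f x) (f y) := fun x y => by
    refine commutatorElement_eq_one_iff_commute.mp ?_
    rw [← map_commutatorElement]
    exact hfc _ (commutator_mem_commutator (mem_top x) (mem_top y))
  obtain ⟨u, hu⟩ : ∃ u, f u = QuotientGroup.mk z := by
    have hle2 : (powSub p k S).map (QuotientGroup.mk' P) ≤ f.range := by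
      rw [powSub, MonoidHom.map_closure, closure_le]
      rintro _ ⟨_, ⟨w, rfl⟩, rfl⟩
      exact ⟨w, rfl⟩
    exact hle2 (mem_map_of_mem (QuotientGroup.mk' P) hk2)
  have hu1 : f u ≠ 1 := by rwa [hu, Ne, QuotientGroup.eq_one_iff]
  -- the form
  set B : S → S → S := fun x y => ⁅x, y⁆ ^ p ^ n with hB
  have hBij : ∀ i j l m : ℤ, B (a0 ^ i * b0 ^ j) (a0 ^ l * b0 ^ m) = z ^ (i * m - j * l) := by
    intro i j l m
    change ⁅a0 ^ i * b0 ^ j, a0 ^ l * b0 ^ m⁆ ^ p ^ n = _
    rw [hcomm, hz, ← zpow_natCast, ← zpow_natCast, ← zpow_mul, ← zpow_mul, mul_comm]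
  have hmem : ∀ x y : S, ⁅x, y⁆ ∈ center S := fun x y =>
    hcen (commutator_mem_commutator (mem_top x) (mem_top y))
  have hBl : ∀ x x' y, B (x * x') y = B x y * B x' y := fun x x' y => by
    change ⁅x * x', y⁆ ^ p ^ n = ⁅x, y⁆ ^ p ^ n * ⁅x', y⁆ ^ p ^ n
    rw [PGroups.commutatorElement_mul_left_of_mem_center (hmem x' y),
      Commute.mul_pow (PGroups.commute_of_mem_center (hmem x y) _)]
  have hBr : ∀ x y y', B x (y * y') = B x y * B x y' := fun x y y' => by
    change ⁅x, y * y'⁆ ^ p ^ n = ⁅x, y⁆ ^ p ^ n * ⁅x, y'⁆ ^ p ^ n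
    rw [PGroups.commutatorElement_mul_right_of_mem_center (hmem x y'),
      Commute.mul_pow (PGroups.commute_of_mem_center (hmem x y) _)]
  have hBz : ∀ x y, ∃ e : ℤ, B x y = z ^ e := fun x y => by
    obtain ⟨i, j, rfl⟩ := hcoord x
    obtain ⟨l, m, rfl⟩ := hcoord y
    exact ⟨_, hBij i j l m⟩
  let Cu : Subgroup S := (MonoidHom.mk' (fun y => B u y) (hBr u)).ker
  have hCu : ∀ y, y ∈ Cu ↔ B u y = 1 := fun y => Iff.rfl
  have hDC : commutator S ≤ Cu := fun d hd => by
    rw [hCu]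
    change ⁅u, d⁆ ^ p ^ n = 1
    rw [commutatorElement_eq_one_iff_mul_comm.mpr (Subgroup.mem_center_iff.mp (hcen hd) u), one_pow]
  -- twisting by an automorphism
  have htw : ∀ a ∈ A, ∀ y,
      ∃ t : ℤ, ¬ (p : ℤ) ∣ t ∧ f ((u ^ t)⁻¹ * a u) = 1 ∧
        B u (a y) ^ t * B ((u ^ t)⁻¹ * a u) (a y) = B u y ^ t := by
    intro a _ y

    obtain ⟨t, ht⟩ := mem_zpowers_iff.mp
      (hgenc ((PGroups.apply_mem_iff_of_characteristic (H := commutator S) inferInstance a).mpr hcmem))
    have haz : a z = z ^ t := by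
      rw [hz, map_pow, ← ht, ← zpow_natCast, ← zpow_natCast, ← zpow_mul, ← zpow_mul, mul_comm]
    have hpt : ¬ (p : ℤ) ∣ t := fun hd => by
      have h1 : a z = 1 := by rw [haz, hzz]; exact hd
      rw [map_eq_one_iff a a.injective] at h1
      rw [h1, orderOf_one] at hzo
      exact hp.out.ne_one hzo.symm
    refine ⟨t, hpt, ?_, ?_⟩
    · have h1 : (u ^ p ^ k)⁻¹ * z ∈ P := QuotientGroup.eq.mp hu
      have h2 := (PGroups.apply_mem_iff_of_characteristic hPc a).mpr h1
      rw [map_mul, map_inv, map_pow, ← QuotientGroup.eq, haz, QuotientGroup.mk_zpow, ← hu, ← hf] at h2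
      rw [map_mul, map_inv, map_zpow, h2, inv_mul_cancel]
    · obtain ⟨e, he⟩ := hBz u y
      have h1 : B (a u) (a y) = B u y ^ t := by
        change ⁅a u, a y⁆ ^ p ^ n = _
        rw [← map_commutatorElement, ← map_pow]
        change a (B u y) = _
        rw [he, map_zpow, haz, ← zpow_mul, ← zpow_mul, mul_comm]
      have hpw : B (u ^ t) (a y) = B u (a y) ^ t :=
        map_zpow (MonoidHom.mk' (fun x => B x (a y)) fun x x' => hBl x x' (a y)) u t
      rw [← hpw, ← hBl, mul_inv_cancel_left, h1]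
  obtain ⟨iu, ju, hiju⟩ := hcoord u
  have hfp' : ∀ s (e : ℤ), (p : ℤ) ∣ e → f s ^ e = 1 := by
    rintro s _ ⟨e, rfl⟩
    rw [zpow_mul, zpow_natCast, hfp, one_zpow]
  -- the radical case
  by_cases hrad : ∀ x, f x = 1 → ∀ y, B x y = 1
  · have htop : ∀ y, y ∈ Cu := by
      intro y
      refine (top_le_iff.mp (hgen.ge.trans ((closure_le Cu).mpr ?_)) : Cu = ⊤).ge (mem_top y)
      rintro _ ⟨a, ha, s, rfl⟩
      obtain ⟨t, hpt, hk, he⟩ := htw a ha s
      rw [hrad _ hk, mul_one] at he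
      obtain ⟨e, hse⟩ := hBz u s
      obtain ⟨e', hse'⟩ := hBz u (a s)
      rw [hse, hse', ← zpow_mul, ← zpow_mul] at he
      have h3 : (p : ℤ) ∣ e' * t - e * t := by
        rw [← hzz, zpow_sub, he, mul_inv_cancel]
      rw [← sub_mul] at h3
      have h4 := ((Nat.prime_iff_prime_int.mp hp.out).dvd_or_dvd h3).resolve_right hpt
      change s⁻¹ * a s ∈ Cu
      rw [hCu, hBr, show B u s⁻¹ = (B u s)⁻¹ from map_inv (MonoidHom.mk' (fun y => B u y) (hBr u)) s,
        hse, hse', ← zpow_neg, ← zpow_add, hzz]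
      rwa [neg_add_eq_sub]
    have h1 : (p : ℤ) ∣ iu := by
      have := (hCu _).mp (htop (a0 ^ (0 : ℤ) * b0 ^ (1 : ℤ)))
      rw [hiju, hBij, hzz] at this
      simpa using this
    have h2 : (p : ℤ) ∣ ju := by
      have := (hCu _).mp (htop (a0 ^ (1 : ℤ) * b0 ^ (0 : ℤ)))
      rw [hiju, hBij, hzz] at this
      simpa using this
    exact hu1 (by rw [hiju, map_mul, map_zpow, map_zpow, hfp' _ _ h1, hfp' _ _ h2, mul_one])
  -- the kernel is isotropic
  push Not at hrad
  obtain ⟨x0, hx0, y0, hxy⟩ := hrad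
  have hiso : ∀ x y, f x = 1 → f y = 1 → B x y = 1 := by
    intro x y hx hy
    obtain ⟨i, j, rfl⟩ := hcoord x
    obtain ⟨l, m, rfl⟩ := hcoord y
    rw [hBij, hzz]
    by_contra hd
    have hone : ∀ s, f s ^ (i * m - j * l) = 1 → f s = 1 := by
      intro s hs
      obtain ⟨v, w, hvw⟩ := ((Nat.prime_iff_prime_int.mp hp.out).coprime_iff_not_dvd.mpr hd)
      calc f s = f s ^ (v * (p : ℤ) + w * (i * m - j * l)) := by rw [hvw, zpow_one]
        _ = 1 := by
          rw [zpow_add, mul_comm v, mul_comm w, zpow_mul, zpow_mul, hs, zpow_natCast, hfp, one_zpow, one_zpow,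
            mul_one]
    rw [map_mul, map_zpow, map_zpow] at hx hy
    have hab := hfcomm a0 b0
    have e1 : f a0 ^ (i * m - j * l) = 1 := by
      calc f a0 ^ (i * m - j * l)
          = (f a0 ^ i * f b0 ^ j) ^ m * ((f a0 ^ l * f b0 ^ m) ^ j)⁻¹ := by
            rw [(hab.zpow_zpow i j).mul_zpow, (hab.zpow_zpow l m).mul_zpow, ← zpow_mul, ← zpow_mul,
              ← zpow_mul, ← zpow_mul, mul_comm m j, mul_comm l j, mul_inv_rev, ← mul_assoc,
              mul_inv_cancel_right, zpow_sub]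
        _ = 1 := by rw [hx, hy, one_zpow, one_zpow, inv_one, mul_one]
    have e2 : f b0 ^ (i * m - j * l) = 1 := by
      calc f b0 ^ (i * m - j * l)
          = (f a0 ^ l * f b0 ^ m) ^ i * ((f a0 ^ i * f b0 ^ j) ^ l)⁻¹ := by
            rw [(hab.zpow_zpow i j).mul_zpow, (hab.zpow_zpow l m).mul_zpow, ← zpow_mul, ← zpow_mul,
              ← zpow_mul, ← zpow_mul, mul_comm l i, mul_comm m i, mul_inv_rev, ← mul_assoc,
              mul_assoc (f a0 ^ (i * l)), ← zpow_neg, ← zpow_add]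
            rw [(hab.zpow_zpow (i * l) (i * m + -(j * l))).eq, mul_assoc, mul_inv_cancel, mul_one,
              ← sub_eq_add_neg]
        _ = 1 := by rw [hx, hy, one_zpow, one_zpow, inv_one, mul_one]
    exact hu1 (by rw [hiju, map_mul, map_zpow, map_zpow, hone _ e1, hone _ e2, one_zpow, one_zpow,
      mul_one])
  have hw : ∀ x, f x = 1 → B u x = 1 := by
    intro x hx
    refine ((hCu x).mp (mem_inf.mp (mem_of_fixed_mod hS A hcop hgen (f.ker ⊓ Cu)
      (le_inf (fun d hd => hfc d hd) hDC) x fun a ha => ?_)).2)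
    have hax : f (a x) = 1 := by
      rw [hf, ← map_pow, QuotientGroup.eq_one_iff, PGroups.apply_mem_iff_of_characteristic hPc a,
        ← QuotientGroup.eq_one_iff, ← hf, hx]
    refine mem_inf.mpr ⟨by rw [MonoidHom.mem_ker, map_mul, map_inv, hx, hax, inv_one, one_mul], ?_⟩
    obtain ⟨t, hpt, hk, he⟩ := htw a ha x
    rw [hiso _ _ hk hax, mul_one] at he
    obtain ⟨e, hse⟩ := hBz u x
    obtain ⟨e', hse'⟩ := hBz u (a x)
    rw [hse, hse', ← zpow_mul, ← zpow_mul] at he
    have h3 : (p : ℤ) ∣ e' * t - e * t := by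
      rw [← hzz, zpow_sub, he, mul_inv_cancel]
    rw [← sub_mul] at h3
    have h4 := ((Nat.prime_iff_prime_int.mp hp.out).dvd_or_dvd h3).resolve_right hpt
    rw [hCu, hBr, show B u x⁻¹ = (B u x)⁻¹ from map_inv (MonoidHom.mk' (fun y => B u y) (hBr u)) x,
      hse, hse', ← zpow_neg, ← zpow_add, hzz]
    rwa [neg_add_eq_sub]
  have hux := hw x0 hx0
  obtain ⟨i, j, rfl⟩ := hcoord x0
  obtain ⟨l, m, rfl⟩ := hcoord y0
  rw [hiju, hBij, hzz] at hux
  rw [map_mul, map_zpow, map_zpow] at hx0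
  have hfu : f u = f a0 ^ iu * f b0 ^ ju := by rw [hiju, map_mul, map_zpow, map_zpow]
  have hab := hfcomm a0 b0
  have hmod : ∀ (s : S) (e e' : ℤ), (p : ℤ) ∣ e - e' → f s ^ e = f s ^ e' := by
    intro s e e' hd
    rw [show e = (e - e') + e' from (sub_add_cancel e e').symm, zpow_add, hfp' _ _ hd, one_mul]
  have hui : f u ^ i = 1 := by
    calc f u ^ i = f a0 ^ (i * iu) * f b0 ^ (ju * i) := by
          rw [hfu, (hab.zpow_zpow iu ju).mul_zpow, ← zpow_mul, ← zpow_mul, mul_comm iu i]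
      _ = f a0 ^ (i * iu) * f b0 ^ (j * iu) := by
          rw [hmod b0 (ju * i) (j * iu) (by
            have := dvd_neg.mpr hux
            rwa [neg_sub, mul_comm iu j] at this)]
      _ = (f a0 ^ i * f b0 ^ j) ^ iu := by rw [(hab.zpow_zpow i j).mul_zpow, zpow_mul, zpow_mul]
      _ = 1 := by rw [hx0, one_zpow]
  have huj : f u ^ j = 1 := by
    calc f u ^ j = f a0 ^ (iu * j) * f b0 ^ (j * ju) := by
          rw [hfu, (hab.zpow_zpow iu ju).mul_zpow, ← zpow_mul, ← zpow_mul, mul_comm ju j]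
      _ = f a0 ^ (i * ju) * f b0 ^ (j * ju) := by
          rw [hmod a0 (iu * j) (i * ju) (by rwa [mul_comm i ju])]
      _ = (f a0 ^ i * f b0 ^ j) ^ ju := by rw [(hab.zpow_zpow i j).mul_zpow, zpow_mul, zpow_mul]
      _ = 1 := by rw [hx0, one_zpow]
  have huo : orderOf (f u) = p := orderOf_eq_prime (hfp u) hu1
  rw [← orderOf_dvd_iff_zpow_eq_one, huo] at hui huj
  refine hxy ?_
  rw [hBij, hzz]
  exact dvd_sub (hui.mul_right m) (huj.mul_right l)

end Cfsg.Agent.OddOrder.BG4
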