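import Cfsg.Agent.PGroups.Basic
import Cfsg.Agent.PGroups.Critical
import Cfsg.Agent.PGroups.Extraspecial
import Cfsg.Agent.H61.RankOne

/-!
BG 4.16, the core: if `E = Ω₁(R)` is non-abelian of order `p ^ 3` and exponent `p` and `R = [R, A]` with
`A` of odd order, then `R` is the central product of `E` and its centralizer.
-/

set_option autoImplicit false

namespace Cfsg.Agent.OddOrder.BG4

open Subgroup
open scoped commutatorElement

universe u

variable {R : Type u} [Group R] [Finite R] {p : ℕ} [hp : Fact p.Prime]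

omit [Finite R] hp in
theorem commutator_char {H K : Subgroup R} (hH : H.Characteristic) (hK : K.Characteristic) :
    (⁅H, K⁆ : Subgroup R).Characteristic := by
  refine characteristic_iff_map_eq.mpr fun φ => ?_
  rw [map_commutator, characteristic_iff_map_eq.mp hH φ, characteristic_iff_map_eq.mp hK φ]

omit [Finite R] hp in
theorem centralizer_char {H : Subgroup R} (hH : H.Characteristic) :
    (centralizer (H : Set R)).Characteristic := by
  rw [characteristic_iff_le_comap]
  intro φ x hx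
  refine mem_centralizer_iff.mpr fun w hw => ?_
  have := mem_centralizer_iff.mp hx (φ.symm w)
    ((PGroups.apply_mem_iff_of_characteristic hH φ.symm).mpr hw)
  simpa using congrArg φ this

/-- The structure of `Ω₁`. -/
theorem omega_cube_structure (hR : IsPGroup p R) {E : Subgroup R}
    (hcard : Nat.card E = p ^ 3) (hnc : ¬ IsMulCommutative E) :
    Nat.card ↥⁅E, E⁆ = p ∧ E ⊓ centralizer (E : Set R) = ⁅E, E⁆ := by
  have hEp := hR.to_subgroup E
  have : Nontrivial E := Finite.one_lt_card_iff_nontrivial.mp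
    (hcard ▸ Nat.one_lt_pow (by norm_num) hp.out.one_lt)
  have hne : center E ≠ ⊥ := (hEp.bot_lt_center).ne'
  have htop : center E ≠ ⊤ := fun e => hnc ⟨⟨fun x y =>
    (Subgroup.mem_center_iff.mp (e.ge (mem_top y)) x)⟩⟩
  obtain ⟨k, hk⟩ := IsPGroup.iff_card.mp (hEp.to_subgroup (center E))
  have hk0 : k ≠ 0 := fun e => hne (card_eq_one.mp (by rw [hk, e, pow_zero]))
  obtain ⟨i, hi⟩ := hEp.index (center E)
  have hsum : k + i = 3 := by
    refine Nat.pow_right_injective hp.out.two_le (?_ : p ^ (k + i) = p ^ 3)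
    rw [pow_add, ← hk, ← hi, card_mul_index, hcard]
  have hi0 : i ≠ 0 := fun e => htop (index_eq_one.mp (by rw [hi, e, pow_zero]))
  have hi1 : i ≠ 1 := fun e => PGroups.center_index_ne_prime (G := E) (p := p) (by
    rw [hi, e, pow_one])
  have hkval : k = 1 := by omega
  have hival : i = 2 := by omega
  rw [hkval, pow_one] at hk
  have hder : commutator E ≤ center E :=
    PGroups.commutator_le_of_index_dvd_sq (p := p) (center E) (by rw [hi, hival])
  have hdne : commutator E ≠ ⊥ := fun e => hnc ⟨⟨fun x y => by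
    have : ⁅x, y⁆ ∈ commutator E := by
      rw [_root_.commutator_def]
      exact commutator_mem_commutator (mem_top x) (mem_top y)
    rw [e, mem_bot, commutatorElement_eq_one_iff_mul_comm] at this
    exact this⟩⟩
  have heq : commutator E = center E := eq_of_le_of_card_ge hder (by
    rw [hk]
    exact Nat.le_of_dvd Nat.card_pos (PGroups.dvd_card_of_ne_bot hEp hdne))
  have hmap : (center E).map E.subtype = ⁅E, E⁆ := by rw [← heq, map_subtype_commutator]
  refine ⟨?_, ?_⟩
  · rw [← hmap, card_map_of_injective E.subtype_injective, hk]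
  · rw [← hmap]
    refine le_antisymm ?_ ?_
    · rintro x ⟨hx, hxC⟩
      exact ⟨⟨x, hx⟩, Subgroup.mem_center_iff.mpr fun y =>
        Subtype.ext (mem_centralizer_iff.mp hxC y y.2), rfl⟩
    · rintro _ ⟨x, hx, rfl⟩
      exact ⟨x.2, mem_centralizer_iff.mpr fun y hy =>
        congrArg Subtype.val (Subgroup.mem_center_iff.mp hx ⟨y, hy⟩)⟩

/-- BG 4.16, core. -/
theorem omega_sup_centralizer (hp2 : p ≠ 2) (hR : IsPGroup p R) {E : Subgroup R}
    (hE : ∀ x : R, x ∈ E ↔ x ^ p = 1) (hcard : Nat.card E = p ^ 3) (hnc : ¬ IsMulCommutative E)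
    (A : Subgroup (MulAut R)) (hAodd : Odd (Nat.card A))
    (hgen : closure {x : R | ∃ a ∈ A, ∃ s : R, x = s⁻¹ * a s} = ⊤) :
    E ⊔ centralizer (E : Set R) = ⊤ ∧ IsCyclic ↥(centralizer (E : Set R)) ∧
      (∀ x ∈ centralizer (E : Set R), x ^ p = 1 → x ∈ ⁅E, E⁆) := by
  have hEc : E.Characteristic := characteristic_iff_le_comap.mpr fun φ x hx => by
    change φ x ∈ E
    rw [hE, ← map_pow, (hE x).mp hx, map_one]
  have hEn : E.Normal := normal_of_characteristic (h := hEc) E
  obtain ⟨hZcard, hinf⟩ := omega_cube_structure hR hcard hnc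
  set Z := ⁅E, E⁆ with hZ
  set Q := centralizer (E : Set R) with hQ
  have hQZ : ∀ x ∈ Q, x ^ p = 1 → x ∈ Z := fun x hx hxp =>
    hinf.le (mem_inf.mpr ⟨(hE x).mpr hxp, hx⟩)
  have hQcyc : IsCyclic Q := by
    refine H61.isCyclic_of_card_pow_eq_one_le hp2 (hR.to_subgroup Q) (le_of_le_of_eq ?_ hZcard)
    refine Nat.card_le_card_of_injective (fun x : {x : Q // x ^ p = 1} =>
      (⟨((x : Q) : R), hQZ _ (x : Q).2 (by simpa using congrArg Subtype.val x.2)⟩ : Z)) ?_
    intro x y hxy
    exact Subtype.ext (Subtype.ext (congrArg Subtype.val hxy :))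
  refine ⟨?_, hQcyc, hQZ⟩
  have hZc : Z.Characteristic := commutator_char hEc hEc
  have hZn : Z.Normal := normal_of_characteristic (h := hZc) Z
  have hZcen : Z ≤ center R := PGroups.le_center_of_card_eq hR Z hZcard
  have hZE : Z ≤ E := hinf.ge.trans inf_le_left
  have hZQ : Z ≤ Q := hinf.ge.trans inf_le_right
  have hQc : Q.Characteristic := centralizer_char hEc
  -- `Q` is central
  have hQcen : Q ≤ center R := by
    obtain ⟨⟨g, hg⟩, hgg⟩ := IsCyclic.exists_generator (α := Q)
    have hQn : Q.Normal := normal_of_characteristic (h := hQc) Q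
    have hexp : ∀ s : R, ∃ r : ℤ, ∀ d ∈ Q, s * d * s⁻¹ = d ^ r := by
      intro s
      obtain ⟨r, hr⟩ := mem_zpowers_iff.mp (hgg ⟨s * g * s⁻¹, hQn.conj_mem g hg s⟩)
      refine ⟨r, fun d hd => ?_⟩
      obtain ⟨i, hi⟩ := mem_zpowers_iff.mp (hgg ⟨d, hd⟩)
      have hi' : g ^ i = d := congrArg Subtype.val hi
      have hr' : g ^ r = s * g * s⁻¹ := congrArg Subtype.val hr
      rw [← hi', ← conj_zpow, ← hr', ← zpow_mul, ← zpow_mul, mul_comm]
    intro d hd
    refine Subgroup.mem_center_iff.mpr fun s => ?_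
    have htop : (⊤ : Subgroup R) ≤ centralizer ({d} : Set R) := by
      rw [← hgen, closure_le]
      rintro _ ⟨a, -, s, rfl⟩
      refine mem_centralizer_singleton_iff.mpr (mul_inv_eq_iff_eq_mul.mp ?_)
      obtain ⟨r, hr⟩ := hexp s
      have hd' : a⁻¹ d ∈ Q := (PGroups.apply_mem_iff_of_characteristic hQc a⁻¹).mpr hd
      have e1 : a s * d * (a s)⁻¹ = d ^ r := by
        have := congrArg a (hr _ hd')
        rwa [map_mul, map_mul, map_inv, map_zpow, MulAut.apply_inv_self] at this
      calc s⁻¹ * a s * d * (s⁻¹ * a s)⁻¹ = s⁻¹ * (a s * d * (a s)⁻¹) * s := by group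
        _ = s⁻¹ * (s * d * s⁻¹) * s := by rw [e1, hr d hd]
        _ = d := by group
    exact mem_centralizer_singleton_iff.mp (htop (mem_top s))
  set M := ⁅(⊤ : Subgroup R), E⁆ with hM
  have hZM : Z ≤ M := commutator_mono le_top le_rfl
  have hME : M ≤ E := commutator_le_right ⊤ E
  have hzpow : ∀ {z : R}, z ∈ Z → z ≠ 1 → ∀ y ∈ Z, ∃ i : ℤ, z ^ i = y := by
    intro z hz hz1 y hy
    exact mem_zpowers_iff.mp ((PGroups.zpowers_eq_of_card_eq hZcard hz hz1).ge hy)
  have hmemE : ∀ x ∈ E, ∀ n : ℤ, (p : ℤ) ∣ n → x ^ n = 1 := by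
    rintro x hx _ ⟨e, rfl⟩
    rw [zpow_mul, zpow_natCast, (hE x).mp hx, one_zpow]
  -- commutators with central values
  have hcl : ∀ {x y e : R}, ⁅y, e⁆ ∈ center R → ⁅x * y, e⁆ = ⁅x, e⁆ * ⁅y, e⁆ :=
    fun h => PGroups.commutatorElement_mul_left_of_mem_center h
  have hczpow : ∀ {x e : R}, (∀ n : ℤ, ⁅x ^ n, e⁆ ∈ center R) → ∀ n : ℤ, ⁅x ^ n, e⁆ = ⁅x, e⁆ ^ n := by
    intro x e h n
    induction n using Int.induction_on with
    | zero => simp
    | succ i ih =>
      rw [zpow_add, zpow_one, hcl (by simpa using h 1), ih, zpow_add, zpow_one]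
    | pred i ih =>
      have h1 := hcl (x := x ^ (-(i : ℤ) - 1)) (y := x) (e := e) (by simpa using h 1)
      rw [← zpow_add_one, sub_add_cancel, ih] at h1
      rw [zpow_sub_one ⁅x, e⁆, h1, mul_inv_cancel_right]
  by_cases hMZ : M ≤ Z
  · -- everything acts as inner automorphisms
    obtain ⟨e0, he0, e1, he1, h01⟩ : ∃ e0 ∈ E, ∃ e1 ∈ E, ⁅e1, e0⁆ ≠ 1 := by
      by_contra hno
      push Not at hno
      exact hnc (PGroups.isMulCommutative_of_comm fun x hx y hy =>
        commutatorElement_eq_one_iff_mul_comm.mp (hno y hy x hx))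
    have hc0 : ∀ r : R, ∀ e ∈ E, ⁅r, e⁆ ∈ Z := fun r e he =>
      hMZ (commutator_mem_commutator (mem_top r) he)
    have hgenE : ∀ w : R, ⁅w, e0⁆ = 1 → ⁅w, e1⁆ = 1 → w ∈ Q := by
      intro w hw0 hw1
      have hle : zpowers e0 ⊔ zpowers e1 ⊔ Z ≤ centralizer ({w} : Set R) := by
        refine sup_le (sup_le ?_ ?_) fun z hz => ?_
        · exact zpowers_le.mpr (mem_centralizer_singleton_iff.mpr
            (commutatorElement_eq_one_iff_mul_comm.mp hw0).symm)
        · exact zpowers_le.mpr (mem_centralizer_singleton_iff.mpr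
            (commutatorElement_eq_one_iff_mul_comm.mp hw1).symm)
        · exact mem_centralizer_singleton_iff.mpr (Subgroup.mem_center_iff.mp (hZcen hz) w).symm
      set L := zpowers e0 ⊔ zpowers e1 ⊔ Z with hL
      have hLE : L ≤ E := sup_le (sup_le (zpowers_le.mpr he0) (zpowers_le.mpr he1)) hZE
      have hLeq : L = E := by
        refine eq_of_le_of_card_ge hLE ?_
        obtain ⟨b, hb⟩ := IsPGroup.iff_card.mp (hR.to_subgroup L)
        rw [hcard, hb]
        refine Nat.pow_le_pow_right hp.out.pos ?_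
        by_contra hlt
        have hb2 : b ≤ 2 := by omega
        have hLc : IsMulCommutative L := by
          interval_cases b
          · have : Subsingleton L := (Nat.card_eq_one_iff_unique.mp (by simpa using hb)).1
            exact ⟨⟨fun x y => Subsingleton.elim _ _⟩⟩
          · have : IsCyclic L := isCyclic_of_prime_card (p := p) (by simpa using hb)
            infer_instance
          · exact IsPGroup.isMulCommutative_of_card_eq_prime_sq (p := p) hb
        exact h01 (commutatorElement_eq_one_iff_mul_comm.mpr (PGroups.comm_of_isMulCommutative hLc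
          (mem_sup_left (mem_sup_right (mem_zpowers e1)))
          (mem_sup_left (mem_sup_left (mem_zpowers e0)))))
      exact mem_centralizer_iff.mpr fun e he =>
        mem_centralizer_singleton_iff.mp (hle (hLeq.ge he))
    rw [eq_top_iff]
    intro r _
    obtain ⟨i, hi⟩ := hzpow (hc0 e1 e0 he0) h01 _ (hc0 r e0 he0)
    obtain ⟨j, hj⟩ := hzpow (hc0 e1 e0 he0) h01 _ (hc0 r e1 he1)
    set w := r * e1 ^ (-i) * e0 ^ j with hw
    have hcen : ∀ x : R, ∀ e ∈ E, ⁅x, e⁆ ∈ center R := fun x e he => hZcen (hc0 x e he)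
    have hw0 : ⁅w, e0⁆ = 1 := by
      rw [hw, hcl (hcen _ e0 he0), hcl (hcen _ e0 he0), hczpow (fun n => hcen _ e0 he0),
        hczpow (fun n => hcen _ e0 he0), ← hi, commutatorElement_self, one_zpow, mul_one,
        zpow_neg, mul_inv_cancel]
    have hw1 : ⁅w, e1⁆ = 1 := by
      rw [hw, hcl (hcen _ e1 he1), hcl (hcen _ e1 he1), hczpow (fun n => hcen _ e1 he1),
        hczpow (fun n => hcen _ e1 he1), ← hj, commutatorElement_self, one_zpow, mul_one,
        ← commutatorElement_inv e1 e0, inv_zpow, mul_inv_cancel]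
    have h1 : e0 ^ (-j) * e1 ^ i ∈ E ⊔ Q :=
      mem_sup_left (mul_mem (zpow_mem he0 _) (zpow_mem he1 _))
    have h2 := mul_mem (mem_sup_right (S := E) (hgenE w hw0 hw1)) h1
    rwa [show w * (e0 ^ (-j) * e1 ^ i) = r by rw [hw]; group] at h2
  -- `M` has order `p ^ 2`
  exfalso
  have hMc : M.Characteristic := commutator_char inferInstance hEc
  have hMn : M.Normal := normal_of_characteristic (h := hMc) M
  have hME' : M ≠ E := by
    intro he
    obtain ⟨n, hn⟩ := Subgroup.nilpotent_iff_lowerCentralSeries.mp hR.isNilpotent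
    have hs : ∀ i, E ≤ (⊤ : Subgroup R).lowerCentralSeries i := by
      intro i
      induction i with
      | zero => simp
      | succ i ihi =>
        rw [← he, hM, commutator_comm, Subgroup.lowerCentralSeries_succ]
        exact commutator_mono ihi le_rfl
    have h0 : E = ⊥ := le_bot_iff.mp ((hs n).trans hn.le)
    rw [h0, card_bot] at hcard
    exact absurd hcard (Nat.one_lt_pow (by norm_num) hp.out.one_lt).ne
  obtain ⟨km, hkm⟩ := IsPGroup.iff_card.mp (hR.to_subgroup M)
  have hkm2 : km = 2 := by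
    refine le_antisymm ?_ ?_
    · by_contra hlt
      exact hME' (eq_of_le_of_card_ge hME (by
        rw [hcard, hkm]; exact Nat.pow_le_pow_right hp.out.pos (by omega)))
    · by_contra hlt
      exact hMZ (eq_of_le_of_card_ge hZM (by
        rw [hZcard, hkm]
        exact le_trans (Nat.pow_le_pow_right hp.out.pos (by omega : km ≤ 1)) (pow_one p).le)).ge
  rw [hkm2] at hkm
  have hMab : ∀ x ∈ M, ∀ y ∈ M, x * y = y * x := fun x hx y hy =>
    PGroups.comm_of_isMulCommutative (IsPGroup.isMulCommutative_of_card_eq_prime_sq (p := p) hkm) hx hy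
  obtain ⟨e0, he0, he0M⟩ := SetLike.not_le_iff_exists.mp fun h => hME' (le_antisymm hME h)
  have hEdec : ∀ x ∈ E, ∃ i : ℤ, ∃ m ∈ M, x = e0 ^ i * m := by
    have hsup : zpowers e0 ⊔ M = E := by
      refine eq_of_le_of_card_ge (sup_le (zpowers_le.mpr he0) hME) ?_
      obtain ⟨b, hb⟩ := IsPGroup.iff_card.mp (hR.to_subgroup (zpowers e0 ⊔ M))
      rw [hcard, hb]
      refine Nat.pow_le_pow_right hp.out.pos ?_
      by_contra hlt
      exact he0M ((eq_of_le_of_card_ge (le_sup_right : M ≤ zpowers e0 ⊔ M) (by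
        rw [hkm, hb]; exact Nat.pow_le_pow_right hp.out.pos (by omega))).ge
        (mem_sup_left (mem_zpowers e0)))
    intro x hx
    rw [← hsup] at hx
    obtain ⟨y, hy, m, hm, rfl⟩ := mem_sup_of_normal_right.mp hx
    obtain ⟨i, rfl⟩ := mem_zpowers_iff.mp hy
    exact ⟨i, m, hm, rfl⟩
  have hMcomm : ∀ m ∈ M, ⁅m, e0⁆ = 1 → m ∈ Z := by
    intro m hm h1
    refine hinf.le (mem_inf.mpr ⟨hME hm, mem_centralizer_iff.mpr fun e he => ?_⟩)
    obtain ⟨i, m', hm', rfl⟩ := hEdec e he
    have h2 : Commute m e0 := commutatorElement_eq_one_iff_commute.mp h1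
    exact ((h2.zpow_right i).mul_right (hMab m hm m' hm')).eq.symm
  -- `q : R → R / Z`
  set π := QuotientGroup.mk' Z with hπ
  have hπ1 : ∀ x, π x = 1 ↔ x ∈ Z := fun x => QuotientGroup.eq_one_iff x
  have hMcen : ∀ m ∈ M, π m ∈ center (R ⧸ Z) := by
    have hc : Nat.card (M.map π) = p := by
      have h1 := relIndex_mul_relIndex ⊥ Z M bot_le hZM
      rw [relIndex_bot_left, relIndex_bot_left, hZcard, hkm, pow_two] at h1
      rw [← relIndex_ker, QuotientGroup.ker_mk']
      exact Nat.eq_of_mul_eq_mul_left hp.out.pos h1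
    have : (M.map π).Normal := Subgroup.Normal.map hMn π (QuotientGroup.mk'_surjective Z)
    exact fun m hm => PGroups.le_center_of_card_eq (hR.to_quotient Z) _ hc (mem_map_of_mem π hm)
  set D := centralizer (M : Set R) with hD
  have hDc : D.Characteristic := centralizer_char hMc
  have hDn : D.Normal := normal_of_characteristic (h := hDc) D
  obtain ⟨m1, hm1, hm1Z⟩ := SetLike.not_le_iff_exists.mp hMZ
  have hz1 : ⁅m1, e0⁆ ≠ 1 := fun h => hm1Z (hMcomm m1 hm1 h)
  have hz1Z : ⁅m1, e0⁆ ∈ Z := commutator_mem_commutator (hME hm1) he0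
  have hMgen : ∀ m ∈ M, ∃ i : ℤ, ∃ z ∈ Z, m = m1 ^ i * z := by
    intro m hm
    obtain ⟨i, hi⟩ := hzpow hz1Z hz1 _ (commutator_mem_commutator (hME hm) he0)
    refine ⟨i, (m1 ^ i)⁻¹ * m, hMcomm _ (mul_mem (inv_mem (zpow_mem hm1 i)) hm) ?_, by group⟩
    have hc : ∀ x ∈ M, ⁅x, e0⁆ ∈ center R := fun x hx =>
      hZcen (commutator_mem_commutator (hME hx) he0)
    rw [← zpow_neg, hcl (hc m hm), hczpow (fun n => hc _ (zpow_mem hm1 n)), ← hi, ← zpow_add,
      neg_add_cancel, zpow_zero]
  have hMdec : ∀ r : R, ⁅r, m1⁆ = 1 → r ∈ D := by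
    intro r h1
    refine mem_centralizer_iff.mpr fun m hm => ?_
    obtain ⟨i, z, hz, rfl⟩ := hMgen m hm
    have h2 : Commute r m1 := commutatorElement_eq_one_iff_commute.mp h1
    have h3 : Commute r z := Subgroup.mem_center_iff.mp (hZcen hz) r
    exact ((h2.zpow_right i).mul_right h3).eq.symm
  have hRdec : ∀ r : R, ∃ i : ℤ, ∃ d ∈ D, r = e0 ^ i * d := by
    intro r
    have hmem : ∀ x : R, ⁅x, m1⁆ ∈ Z := fun x => by
      rw [← hπ1, map_commutatorElement, commutatorElement_eq_one_iff_mul_comm]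
      exact Subgroup.mem_center_iff.mp (hMcen m1 hm1) (π x)
    have hne : ⁅e0, m1⁆ ≠ 1 := fun h => hz1 (by rw [← commutatorElement_inv, h, inv_one])
    obtain ⟨i, hi⟩ := hzpow (hmem e0) hne _ (hmem r)
    refine ⟨i, (e0 ^ i)⁻¹ * r, hMdec _ ?_, by group⟩
    rw [← zpow_neg, hcl (hZcen (hmem r)), hczpow (fun n => hZcen (hmem _)), ← hi, ← zpow_add,
      neg_add_cancel, zpow_zero]
  have hQD : Q ≤ D := fun q hq => mem_centralizer_iff.mpr fun m hm =>
    mem_centralizer_iff.mp hq m (hME hm)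
  have hMD : M ≤ D := fun m hm => mem_centralizer_iff.mpr fun m' hm' => hMab m' hm' m hm
  -- `d ↦ ⁅d, e0⁆` on `D`
  have hchi : ∀ x ∈ D, ∀ y ∈ D, ⁅x * y, e0⁆ = ⁅y, e0⁆ * ⁅x, e0⁆ := by
    intro x hx y hy
    have hy' : ⁅y, e0⁆ ∈ M := commutator_mem_commutator (mem_top y) he0
    rw [commutatorElement_mul_left_eq_conj_mul, ← mem_centralizer_iff.mp hx _ hy',
      mul_inv_cancel_right]
  have hMQ : ∀ d ∈ D, ⁅d, e0⁆ ∈ Z → ∃ m ∈ M, ∃ q ∈ Q, d = m * q := by
    intro d hd hdZ
    obtain ⟨i, hi⟩ := hzpow hz1Z hz1 _ hdZ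
    refine ⟨m1 ^ i, zpow_mem hm1 i, (m1 ^ i)⁻¹ * d, ?_, by group⟩
    have h1 : ⁅(m1 ^ i)⁻¹ * d, e0⁆ = 1 := by
      rw [← zpow_neg, hcl (hZcen hdZ),
        hczpow (fun n => hZcen (commutator_mem_commutator (hME (zpow_mem hm1 n)) he0)), ← hi,
        ← zpow_add, neg_add_cancel, zpow_zero]
    have h2 : (m1 ^ i)⁻¹ * d ∈ D := mul_mem (hMD (inv_mem (zpow_mem hm1 i))) hd
    refine mem_centralizer_iff.mpr fun e he => ?_
    obtain ⟨k, m, hm, rfl⟩ := hEdec e he
    have h3 : Commute ((m1 ^ i)⁻¹ * d) e0 := commutatorElement_eq_one_iff_commute.mp h1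
    have h4 : Commute ((m1 ^ i)⁻¹ * d) m := (mem_centralizer_iff.mp h2 m hm).symm
    exact ((h3.zpow_right k).mul_right h4).eq.symm
  have hex : ∃ r ∈ D, ⁅r, e0⁆ ∉ Z := by
    by_contra hno
    push Not at hno
    refine hMZ (commutator_le.mpr fun r _ e he => ?_)
    obtain ⟨i, d, hd, rfl⟩ := hRdec r
    obtain ⟨m, hm, q, hq, rfl⟩ := hMQ d hd (hno d hd)
    have h1 : ⁅q, e⁆ = 1 :=
      commutatorElement_eq_one_iff_mul_comm.mpr (mem_centralizer_iff.mp hq e he).symm
    rw [← mul_assoc, commutatorElement_mul_left_eq_conj_mul, h1, mul_one, mul_inv_cancel, one_mul]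
    exact commutator_mem_commutator (mul_mem (zpow_mem he0 i) (hME hm)) he
  classical
  obtain ⟨r0, ⟨hr0D, hr0Z⟩, hmin⟩ := Set.exists_min_image {r : R | r ∈ D ∧ ⁅r, e0⁆ ∉ Z} orderOf
    (Set.toFinite _) (by obtain ⟨r, hr⟩ := hex; exact ⟨r, hr⟩)
  set m0 := ⁅r0, e0⁆ with hm0
  have hm0M : m0 ∈ M := commutator_mem_commutator (mem_top r0) he0
  have hr0E : r0 ∉ E := fun h => hr0Z (commutator_mem_commutator h he0)
  obtain ⟨j', hj'⟩ := IsPGroup.iff_orderOf.mp hR r0
  obtain ⟨j, rfl⟩ : ∃ j, j' = j + 2 := ⟨j' - 2, by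
    have : ¬ j' ≤ 1 := fun h => hr0E ((hE r0).mpr (orderOf_dvd_iff_pow_eq_one.mp
      (hj' ▸ (pow_dvd_pow p h).trans (pow_one p).dvd)))
    omega⟩
  set w := r0 ^ p ^ (j + 1) with hw
  have hwo : orderOf w = p := by
    rw [hw, orderOf_pow, hj', Nat.gcd_eq_right (pow_dvd_pow p (Nat.le_succ (j + 1))), pow_succ,
      Nat.mul_div_cancel_left _ (pow_pos hp.out.pos (j + 1))]
  have hz0 : ⁅m0, e0⁆ ≠ 1 := fun h => hr0Z (hMcomm m0 hm0M h)
  have hz0Z : ⁅m0, e0⁆ ∈ Z := commutator_mem_commutator (hME hm0M) he0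
  have hMgen0 : ∀ m ∈ M, ∃ i : ℤ, π m = π m0 ^ i := by
    intro m hm
    obtain ⟨i, hi⟩ := hzpow hz0Z hz0 _ (commutator_mem_commutator (hME hm) he0)
    refine ⟨i, ?_⟩
    have h1 : (m0 ^ i)⁻¹ * m ∈ Z := by
      refine hMcomm _ (mul_mem (inv_mem (zpow_mem hm0M i)) hm) ?_
      have hc : ∀ x ∈ M, ⁅x, e0⁆ ∈ center R := fun x hx =>
        hZcen (commutator_mem_commutator (hME hx) he0)
      rw [← zpow_neg, hcl (hc m hm), hczpow (fun n => hc _ (zpow_mem hm0M n)), ← hi, ← zpow_add,
        neg_add_cancel, zpow_zero]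
    rw [← map_zpow]
    exact (QuotientGroup.eq.mpr h1).symm
  have hπm0 : orderOf (π m0) = p := orderOf_eq_prime
    (by rw [← map_pow, (hE m0).mp (hME hm0M), map_one]) fun h => hr0Z ((hπ1 _).mp h)
  have hwM : w ∈ M := by
    have hwE : w ∈ E := (hE w).mpr (hwo ▸ pow_orderOf_eq_one w)
    obtain ⟨i, m, hm, hwe⟩ := hEdec w hwE
    have h1 : e0 ^ i ∈ D := by
      have : w * m⁻¹ ∈ D := mul_mem (pow_mem hr0D _) (inv_mem (hMD hm))
      rwa [hwe, mul_inv_cancel_right] at this
    by_cases hd : (p : ℤ) ∣ i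
    · rw [hwe, hmemE e0 he0 i hd, one_mul]
      exact hm
    · exfalso
      obtain ⟨u, v, huv⟩ := ((Nat.prime_iff_prime_int.mp hp.out).coprime_iff_not_dvd.mpr hd)
      have h2 : e0 ∈ D := by
        have : e0 = (e0 ^ i) ^ v := by
          calc e0 = e0 ^ (u * p + v * i) := by rw [huv, zpow_one]
            _ = (e0 ^ i) ^ v := by
              rw [zpow_add, hmemE e0 he0 (u * p) (dvd_mul_left _ _), one_mul, mul_comm, zpow_mul]
        exact this ▸ zpow_mem h1 v
      exact hz1 (commutatorElement_eq_one_iff_mul_comm.mpr (mem_centralizer_iff.mp h2 m1 hm1))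
  -- each element of `A` fixes `e0` modulo `M`
  have hfix : ∀ a ∈ A, e0⁻¹ * a e0 ∈ M := by
    intro a ha
    obtain ⟨μ, n1, hn1, hae⟩ := hEdec _ ((PGroups.apply_mem_iff_of_characteristic hEc a).mpr he0)
    have haD : a r0 ∈ D := (PGroups.apply_mem_iff_of_characteristic hDc a).mpr hr0D
    obtain ⟨ν, hν⟩ := hMgen0 _ (commutator_mem_commutator (mem_top (a r0)) he0)
    set h := (r0 ^ ν)⁻¹ * a r0 with hh
    have hhD : h ∈ D := mul_mem (inv_mem (zpow_mem hr0D ν)) haD
    have hpow : ∀ n : ℤ, π ⁅r0 ^ n, e0⁆ = π m0 ^ n := by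
      intro n
      induction n using Int.induction_on with
      | zero => simp
      | succ i ih =>
        rw [zpow_add, zpow_one, hchi _ (zpow_mem hr0D _) _ hr0D, map_mul, ih, ← hm0, zpow_add,
          zpow_one]
        exact ((Commute.refl (π m0)).zpow_right i).eq
      | pred i ih =>
        have h1 := hchi _ (zpow_mem hr0D (-(i : ℤ) - 1)) _ hr0D
        rw [← zpow_add_one, sub_add_cancel] at h1
        have h2 := congrArg π h1
        rw [map_mul, ih, ← hm0] at h2
        conv_rhs => rw [zpow_sub_one, h2]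
        have hc : Commute (π ⁅r0 ^ (-(i : ℤ) - 1), e0⁆) (π m0) :=
          Subgroup.mem_center_iff.mp (hMcen m0 hm0M) _
        rw [hc.symm.eq, mul_inv_cancel_right]
    have hhZ : ⁅h, e0⁆ ∈ Z := by
      rw [← hπ1, hh, ← zpow_neg, hchi _ (zpow_mem hr0D _) _ haD, map_mul, hν, hpow, ← zpow_add,
        add_neg_cancel, zpow_zero]
    obtain ⟨m', hm', q', hq', hhe⟩ := hMQ h hhD hhZ
    have har : a r0 = r0 ^ ν * h := by rw [hh, mul_inv_cancel_left]
    -- the image of `m0`
    have ham0 : π (a m0) = π m0 ^ (ν * μ) := by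
      have e1 : a m0 = ⁅a r0, e0 ^ μ⁆ := by
        rw [hm0, map_commutatorElement, hae, commutatorElement_mul_right_eq_mul_conj,
          commutatorElement_eq_one_iff_mul_comm.mpr (mem_centralizer_iff.mp haD n1 hn1).symm]
        group
      rw [e1, har, map_commutatorElement, map_mul]
      have h2 : Commute (π h) (π (e0 ^ μ)) := by
        rw [hhe, map_mul]
        refine Commute.mul_left (Subgroup.mem_center_iff.mp (hMcen m' hm') _).symm ?_
        exact (show Commute q' (e0 ^ μ) from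
          (mem_centralizer_iff.mp hq' _ (zpow_mem he0 μ)).symm).map π
      rw [commutatorElement_mul_left_eq_conj_mul,
        commutatorElement_eq_one_iff_commute.mpr h2, mul_one, mul_inv_cancel, one_mul, zpow_mul]
      rw [← hpow ν, map_commutatorElement]
      generalize hX : π (r0 ^ ν) = X
      rw [map_zpow]
      have hcX : ⁅X, π e0⁆ ∈ center (R ⧸ Z) := by
        rw [← hX, ← map_commutatorElement]
        exact hMcen _ (commutator_mem_commutator (mem_top _) he0)
      have hall : ∀ y, y ∈ zpowers (π e0) → ⁅X, y⁆ ∈ center (R ⧸ Z) := by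
        rintro _ ⟨k, rfl⟩
        change ⁅X, π e0 ^ k⁆ ∈ _
        rw [← hX, ← map_zpow, ← map_commutatorElement]
        exact hMcen _ (commutator_mem_commutator (mem_top _) (zpow_mem he0 k))
      exact map_zpow (MonoidHom.mk'
        (fun y : zpowers (π e0) => ⁅X, (y : R ⧸ Z)⁆) fun y y' => by
          rw [Subgroup.coe_mul]
          exact PGroups.commutatorElement_mul_right_of_mem_center (hall _ y'.2))
        (⟨π e0, mem_zpowers _⟩) μ
    have hνp : ¬ (p : ℤ) ∣ ν * μ := by
      intro hd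
      have h1 : π (a m0) = 1 := by
        rw [ham0, ← orderOf_dvd_iff_zpow_eq_one, hπm0]
        exact hd
      rw [hπ1, PGroups.apply_mem_iff_of_characteristic hZc a] at h1
      exact hr0Z h1
    -- the image of `⁅m0, e0⁆`
    have haz : a ⁅m0, e0⁆ = ⁅m0, e0⁆ ^ (ν * μ * μ) := by
      have haM : a m0 ∈ M := (PGroups.apply_mem_iff_of_characteristic hMc a).mpr hm0M
      have hzz : (m0 ^ (ν * μ))⁻¹ * a m0 ∈ Z := by
        rw [← hπ1, map_mul, map_inv, map_zpow, ham0, inv_mul_cancel]
      have hc : ∀ x ∈ E, ∀ y ∈ E, ⁅x, y⁆ ∈ center R := fun x hx y hy =>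
        hZcen (commutator_mem_commutator hx hy)
      rw [map_commutatorElement, hae, commutatorElement_mul_right_eq_mul_conj,
        commutatorElement_eq_one_iff_mul_comm.mpr (hMab _ haM n1 hn1)]
      rw [show a m0 = m0 ^ (ν * μ) * ((m0 ^ (ν * μ))⁻¹ * a m0) by group,
        hcl (hc _ (hZE hzz) _ (zpow_mem he0 μ)),
        commutatorElement_eq_one_iff_mul_comm.mpr
          (Subgroup.mem_center_iff.mp (hZcen hzz) (e0 ^ μ)).symm]
      rw [hczpow (fun n => hc _ (zpow_mem (hME hm0M) n) _ (zpow_mem he0 μ)), mul_one]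
      have e2 : ⁅m0, e0 ^ μ⁆ = ⁅m0, e0⁆ ^ μ := by
        have := hczpow (x := e0) (e := m0) (fun n => hc _ (zpow_mem he0 n) _ (hME hm0M)) μ
        rw [← commutatorElement_inv, this, ← inv_zpow, commutatorElement_inv]
      rw [e2, ← zpow_mul, mul_comm μ]
      group
    have hμ : (p : ℤ) ∣ μ ^ 2 - 1 := by
      have haw : a w = w ^ ν * h ^ p ^ (j + 1) := by
        have hc : Commute (r0 ^ ν) h := by
          rw [hhe]
          refine Commute.mul_right ?_ (Subgroup.mem_center_iff.mp (hQcen hq') _)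
          exact ((mem_centralizer_iff.mp (zpow_mem hr0D ν)) m' hm').symm
        rw [hw, map_pow, har, hc.mul_pow, ← zpow_natCast, ← zpow_natCast r0, ← zpow_mul,
          ← zpow_mul, mul_comm ν]
      have hhpow : h ^ p ^ (j + 1) = q' ^ p ^ (j + 1) := by
        have hc : Commute m' q' := (Subgroup.mem_center_iff.mp (hQcen hq') m')
        rw [hhe, hc.mul_pow, pow_succ', pow_mul, (hE m').mp (hME hm'), one_pow, one_mul]
      by_cases hwZ : w ∈ Z
      · obtain ⟨l, hl⟩ := hzpow hz0Z hz0 _ hwZ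
        have hQexp : ∀ q ∈ Q, q ^ p ^ (j + 1) = 1 := by
          intro q hq
          by_contra hne
          obtain ⟨c, hc⟩ := IsPGroup.iff_orderOf.mp hR q
          have hjc : j + 1 < c := by
            by_contra hle
            exact hne (orderOf_dvd_iff_pow_eq_one.mp (hc ▸ pow_dvd_pow p (by omega)))
          set y := q ^ p ^ (c - 1 - (j + 1)) with hy
          have hyj : y ^ p ^ (j + 1) = q ^ p ^ (c - 1) := by
            rw [hy, ← pow_mul, ← pow_add]
            congr 2
            omega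
          have hyo : orderOf (q ^ p ^ (c - 1)) = p := by
            rw [orderOf_pow, hc, Nat.gcd_eq_right (pow_dvd_pow p (Nat.sub_le c 1))]
            conv_lhs => rw [show p ^ c = p ^ (c - 1) * p by rw [← pow_succ]; congr 1; omega]
            exact Nat.mul_div_cancel_left _ (pow_pos hp.out.pos _)
          have hyZ : q ^ p ^ (c - 1) ∈ Z :=
            hQZ _ (pow_mem hq _) (orderOf_dvd_iff_pow_eq_one.mp hyo.dvd)
          have hy1 : q ^ p ^ (c - 1) ≠ 1 := fun e => by
            rw [e, orderOf_one] at hyo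
            exact hp.out.ne_one hyo.symm
          obtain ⟨k, hk⟩ := hzpow hyZ hy1 _ (inv_mem hwZ)
          set r := r0 * y ^ k with hr
          have hyQ : y ^ k ∈ Q := zpow_mem (pow_mem hq _) k
          have hrD : r ∈ D := mul_mem hr0D (hQD hyQ)
          have hrZ : ⁅r, e0⁆ ∉ Z := by
            rw [hr, hchi _ hr0D _ (hQD hyQ), commutatorElement_eq_one_iff_mul_comm.mpr
              (mem_centralizer_iff.mp hyQ e0 he0).symm, one_mul]
            exact hr0Z
          have hr1 : r ^ p ^ (j + 1) = 1 := by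
            have hc' : Commute r0 (y ^ k) := Subgroup.mem_center_iff.mp (hQcen hyQ) r0
            rw [hr, hc'.mul_pow, ← hw, ← zpow_natCast (y ^ k), ← zpow_mul, mul_comm, zpow_mul,
              zpow_natCast, hyj, hk, mul_inv_cancel]
          have h3 := Nat.le_of_dvd (pow_pos hp.out.pos _) (orderOf_dvd_of_pow_eq_one hr1)
          have h4 := hmin r ⟨hrD, hrZ⟩
          rw [hj'] at h4
          have := Nat.pow_lt_pow_right hp.out.one_lt (show j + 1 < j + 2 by omega)
          omega
        rw [hhpow, hQexp q' hq', mul_one, ← hl, map_zpow, haz, ← zpow_mul, ← zpow_mul] at haw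
        have hz0o : orderOf ⁅m0, e0⁆ = p := orderOf_eq_prime ((hE _).mp (hZE hz0Z)) hz0
        rw [zpow_eq_zpow_iff_modEq, hz0o, Int.modEq_comm, Int.modEq_iff_dvd] at haw
        have hl0 : ¬ (p : ℤ) ∣ l := fun hd => by
          rw [hmemE _ (hZE hz0Z) l hd] at hl
          rw [← hl, orderOf_one] at hwo
          exact hp.out.ne_one hwo.symm
        rw [show ν * μ * μ * l - l * ν = (μ ^ 2 - 1) * (ν * l) by ring] at haw
        refine ((Nat.prime_iff_prime_int.mp hp.out).dvd_or_dvd haw).resolve_right fun hd => ?_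
        rcases (Nat.prime_iff_prime_int.mp hp.out).dvd_or_dvd hd with h5 | h5
        · exact hνp (h5.mul_right μ)
        · exact hl0 h5
      · obtain ⟨l, hl⟩ := hMgen0 w hwM
        have hpz : π (h ^ p ^ (j + 1)) = 1 := by
          rw [hπ1]
          refine hinf.le (mem_inf.mpr ⟨?_, hhpow ▸ pow_mem hq' _⟩)
          have : h ^ p ^ (j + 1) = (w ^ ν)⁻¹ * a w := by rw [haw, inv_mul_cancel_left]
          rw [this]
          exact mul_mem (inv_mem (zpow_mem (hME hwM) ν))
            ((PGroups.apply_mem_iff_of_characteristic hEc a).mpr (hME hwM))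
        have h1 : π (a w) = π m0 ^ (ν * μ * l) := by
          obtain ⟨l', hl'⟩ : ∃ l' : ℤ, l' = l := ⟨l, rfl⟩
          have hzz : (m0 ^ l)⁻¹ * w ∈ Z := by
            rw [← hπ1, map_mul, map_inv, map_zpow, hl, inv_mul_cancel]
          have h2 := (hπ1 _).mpr ((PGroups.apply_mem_iff_of_characteristic hZc a).mpr hzz)
          rw [map_mul a, map_inv a, map_zpow a, map_mul, map_inv, map_zpow, inv_mul_eq_one, ham0,
            ← zpow_mul] at h2
          exact h2.symm
        rw [haw, map_mul, hpz, mul_one, map_zpow, hl, ← zpow_mul, zpow_eq_zpow_iff_modEq, hπm0,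
          Int.modEq_iff_dvd] at h1
        have hl0 : ¬ (p : ℤ) ∣ l := fun hd => hwZ ((hπ1 w).mp (by
          rw [hl, ← orderOf_dvd_iff_zpow_eq_one, hπm0]
          exact hd))
        rw [show ν * μ * l - l * ν = (μ - 1) * (ν * l) by ring] at h1
        rw [show μ ^ 2 - 1 = (μ - 1) * (μ + 1) by ring]
        refine Dvd.dvd.mul_right ?_ _
        refine ((Nat.prime_iff_prime_int.mp hp.out).dvd_or_dvd h1).resolve_right fun hd => ?_
        rcases (Nat.prime_iff_prime_int.mp hp.out).dvd_or_dvd hd with h5 | h5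
        · exact hνp (h5.mul_right μ)
        · exact hl0 h5
    -- odd order
    set φ := QuotientGroup.mk' M with hφ
    have hφo : orderOf (φ e0) = p := orderOf_eq_prime
      (by rw [← map_pow, (hE e0).mp he0, map_one]) fun h => he0M ((QuotientGroup.eq_one_iff e0).mp h)
    have hiter : ∀ k : ℕ, φ ((a ^ k) e0) = φ e0 ^ μ ^ k := by
      intro k
      induction k with
      | zero => simp
      | succ k ih =>
        have hzz : (e0 ^ μ ^ k)⁻¹ * (a ^ k) e0 ∈ M := by
          rw [← QuotientGroup.eq_one_iff]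
          change φ _ = 1
          rw [map_mul, map_inv, map_zpow, ih, inv_mul_cancel]
        have h2 := (QuotientGroup.eq_one_iff _).mpr
          ((PGroups.apply_mem_iff_of_characteristic hMc a).mpr hzz)
        change φ _ = 1 at h2
        rw [map_mul a, map_inv a, map_zpow a, map_mul, map_inv, map_zpow, inv_mul_eq_one, hae,
          map_mul, show φ n1 = 1 from (QuotientGroup.eq_one_iff n1).mpr hn1, mul_one, map_zpow,
          ← zpow_mul, ← pow_succ'] at h2
        rw [pow_succ', MulAut.mul_apply]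
        exact h2.symm
    have hodd : Odd (orderOf a) := hAodd.of_dvd_nat (A.orderOf_dvd_natCard ha)
    have h1 := hiter (orderOf a)
    rw [pow_orderOf_eq_one, MulAut.one_apply] at h1
    have h2 : (p : ℤ) ∣ μ ^ orderOf a - 1 := by
      have h3 : φ e0 ^ (μ ^ orderOf a - 1) = 1 := by
        rw [zpow_sub, zpow_one, ← h1, mul_inv_cancel]
      rwa [← orderOf_dvd_iff_zpow_eq_one, hφo] at h3
    obtain ⟨t, ht⟩ := hodd
    have h4 : (p : ℤ) ∣ μ - 1 := by
      have h5 : (p : ℤ) ∣ μ * ((μ ^ 2) ^ t - 1) :=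
        Dvd.dvd.mul_left (hμ.trans (sub_one_dvd_pow_sub_one _ t)) μ
      rw [ht] at h2
      have := dvd_sub h2 h5
      rwa [show μ ^ (2 * t + 1) - 1 - μ * ((μ ^ 2) ^ t - 1) = μ - 1 by ring] at this
    rw [hae, ← mul_assoc, ← zpow_neg_one, ← zpow_add, hmemE e0 he0 _ (by
      rwa [neg_add_eq_sub]), one_mul]
    exact hn1
  -- contradiction
  have hle : closure {x : R | ∃ a ∈ A, ∃ s : R, x = s⁻¹ * a s} ≤ D := by
    rw [closure_le]
    rintro _ ⟨a, ha, s, rfl⟩
    obtain ⟨i, d, hd, rfl⟩ := hRdec s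
    have had : a d ∈ D := (PGroups.apply_mem_iff_of_characteristic hDc a).mpr hd
    have h1 : (e0 ^ i)⁻¹ * a (e0 ^ i) ∈ M := by
      have h2 : QuotientGroup.mk' M (a e0) = QuotientGroup.mk' M e0 :=
        (QuotientGroup.eq.mpr (hfix a ha)).symm
      rw [← QuotientGroup.eq_one_iff]
      change QuotientGroup.mk' M _ = 1
      rw [map_mul, map_inv, map_zpow a, map_zpow, map_zpow, h2, inv_mul_cancel]
    rw [map_mul, show (e0 ^ i * d)⁻¹ * (a (e0 ^ i) * a d) =
      d⁻¹ * ((e0 ^ i)⁻¹ * a (e0 ^ i)) * a d by group]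
    exact mul_mem (mul_mem (inv_mem hd) (hMD h1)) had
  rw [hgen] at hle
  exact hz1 (commutatorElement_eq_one_iff_mul_comm.mpr
    (mem_centralizer_iff.mp (hle (mem_top e0)) m1 hm1))

end Cfsg.Agent.OddOrder.BG4
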